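import Groth.Agent.ZeroMapX.Pull
import Groth.Agent.CurveNondeg.Point
import Groth.Agent.CurveEmbed.Equiv
import Groth.Agent.GeomConn5.Point
import Groth.Agent.S1536

/-!
# Divisors of degree one and sections on a curve of genus one
-/

set_option autoImplicit false
set_option maxHeartbeats 1600000
set_option linter.style.haveILetI false
set_option linter.unusedSectionVars false
set_option backward.isDefEq.respectTransparency false
set_option backward.isDefEq.respectTransparency.types false

universe u

open CategoryTheory CategoryTheory.Limits AlgebraicGeometry TopologicalSpace Opposite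

attribute [local instance] Curv2.resAlgebra

namespace Groth.Agent.GenusOneX

open Groth.Agent InvX ZeroMapX

variable {X : Scheme.{u}}

theorem isZeroIdeal_idealModι (I : X.IdealSheafData) (hI : PicF.IsInvertible (ClSub.idealMod I)) :
    IsZeroIdeal (ClSub.idealModι I) I := by
  intro x V hx a' b' c' ha' hb' hc'
  obtain ⟨U₀, hx₀, ε, hε⟩ := exists_frame hI x
  obtain ⟨U, hU, hxU, hle⟩ := exists_isAffineOpen_mem_and_subset hx₀
  rw [Div21Lib.st_eq I ⟨U, hU⟩ hxU, CDivEq.stk, CurveAlgEqLib.span_idealSect_frame I ⟨U, hU⟩ (hε.res hle),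
    Ideal.map_span, Set.image_singleton]
  exact span_germ_eq _ hxU hx (hε.res hle) (isFrame_one U) (idealModι_app I _) ha' hb' hc'

theorem not_surjective_stalk_idealModι (I : X.IdealSheafData) (hI : PicF.IsInvertible (ClSub.idealMod I)) {p : X}
    (hp : p ∈ (I.support : Set X)) :
    ¬ Function.Surjective ((DerSch.stalkFunctor X p).map (ClSub.idealModι I)) := fun hs => by
  obtain ⟨U, hxU, ε, hε⟩ := exists_frame hI p
  have hc := idealModι_app I ε
  have hst := isZeroIdeal_idealModι I hI p U hxU ε _ _ hε (isFrame_one U) hc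
  refine (Div21Lib.notMem_support_iff I p).2 ?_ hp
  rw [hst, Ideal.span_singleton_eq_top]
  obtain ⟨m, hm⟩ := hs ((Coh.structureModule X).presheaf.germ U p hxU (show Γ(Coh.structureModule X, U) from (1 : Γ(X, U))))
  obtain ⟨r, rfl⟩ := (hε.germ_bijective hxU).2 m
  change RefHull.stalkMapₗ (ClSub.idealModι I) p (r • _) = _ at hm
  rw [map_smul, RefHull.stalkMapₗ_germ, hc, QCoh.germ_smul', ← mul_smul] at hm
  exact IsUnit.of_mul_eq_one_right r ((isFrame_one U).germ_bijective hxU |>.1
    (hm.trans (one_smul _ _).symm))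

variable (k : Type u) [Field k] [X.Over (Spec (CommRingCat.of k))]

variable [IsIntegral X] [IsProper (X ↘ Spec (CommRingCat.of k))] [Smooth (X ↘ Spec (CommRingCat.of k))]

include k in
/-- A divisor of degree one is a rational point: its scheme is the base. -/
theorem isIso_subscheme_of_deg (hdim : topologicalKrullDim X = 1) (J : X.IdealSheafData)
    (hJ : PicF.IsInvertible (ClSub.idealMod J)) (hdeg : Curv2.deg k X (ClSub.idealMod J) 1 = -1) :
    IsIso (J.subschemeι ≫ (X ↘ Spec (CommRingCat.of k))) := by
  haveI := CurveCohLib.isNoetherian_of_proper (k := k) (X := X)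
  have hO := CurveDeg.isInvertible_structureModule (X := X)
  have hC : BlowUp.IsEffCartierIdeal J := (S8914.result J).1 hJ
  haveI : Mono (ClSub.idealModι J) := ZeroMapX.mono_of_isZeroIdeal hJ hO (isZeroIdeal_idealModι J hJ) hC
  obtain ⟨p, hpJ, hp⟩ : ∃ p ∈ (J.support : Set X), IsClosed ({p} : Set X) := by
    refine IsClosed.exists_closed_singleton J.support.isClosed (Set.nonempty_iff_ne_empty.2 fun h => ?_)
    have : IsIso (ClSub.idealModι J) := DivX.isIso_of_frames _ fun x => by
      obtain ⟨U, hxU, ε, hε⟩ := exists_frame hJ x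
      have hst := isZeroIdeal_idealModι J hJ x U hxU ε _ _ hε (isFrame_one U) (idealModι_app J ε)
      rw [(Div21Lib.notMem_support_iff J x).1 (h ▸ Set.notMem_empty x), eq_comm, Ideal.span_singleton_eq_top] at hst
      rw [← X.mem_basicOpen _ x hxU] at hst
      refine ⟨X.basicOpen (OmegaSh.idealSect J U ε), hst, AModX.res _ (X.basicOpen_le _) ε, hε.res _, ?_⟩
      rw [AModX.app_res, idealModι_app, AModX.res_smul]
      exact ((isFrame_one U).res _).isUnit_smul (RingedSpace.isUnit_res_basicOpen _ _)
    haveI := this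
    have h1 := CurveRR.deg_congr k (asIso (ClSub.idealModι J)) 1
    rw [hdeg, CurveDeg.deg_structureModule] at h1
    omega
  have h0 := CurveNondeg.comp_toSubscheme_eq_zero k (ClSub.idealModι J) hp (not_surjective_stalk_idealModι J hJ hpJ)
  let P := CurvePoint.ptIdeal p hp
  let v : ClSub.idealMod J ⟶ CurvePoint.ptMod p hp := kernel.lift (ClSub.toSubscheme P) (ClSub.idealModι J) h0
  have hv : v ≫ ClSub.idealModι P = ClSub.idealModι J := kernel.lift_ι _ _ _
  have hιne : ClSub.idealModι J ≠ 0 := fun hz => by
    obtain ⟨U, hxU, ε, hε⟩ := exists_frame hJ p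
    have hc : (ClSub.idealModι J).app U ε = (0 : Γ(X, U)) • (show Γ(Coh.structureModule X, U) from (1 : Γ(X, U))) := by
      rw [hz, zero_smul]; rfl
    have h1 := germ_coef_nzd (isZeroIdeal_idealModι J hJ) hC hxU hε (isFrame_one U) hc
    rw [map_zero] at h1
    exact zero_notMem_nonZeroDivisors h1
  have hvne : v ≠ 0 := fun hz => hιne (by rw [← hv, hz, zero_comp])
  have hI := CurveNondeg.isInvertible_pt k hdim hp
  obtain ⟨hle, hiso⟩ := CurveDeg.deg_le_and_isIso k hdim.le hJ hI v hvne
  have hdp : Curv2.deg k X (CurvePoint.ptMod p hp) 1 = -(Module.finrank k (X.residueField p) : ℤ) :=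
    CurveEmbed.deg_point k hp
  rw [hdeg, hdp] at hle
  have hpos : 0 < Module.finrank k (X.residueField p) := by
    rw [pos_iff_ne_zero]
    intro hz
    have hιP : ClSub.idealModι P ≠ 0 := fun h => hιne (by rw [← hv, h, comp_zero])
    haveI := (CurveDeg.deg_le_and_isIso k hdim.le hI hO _ hιP).2 (by
      rw [hdp, hz, CurveDeg.deg_structureModule]; rfl)
    have hq : ClSub.toSubscheme P = 0 :=
      (cancel_epi (ClSub.idealModι P)).1 ((kernel.condition _).trans comp_zero.symm)
    haveI : Epi (ClSub.toSubscheme P) := CurvePoint.epi_toSubscheme _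
    exact CurvePoint.not_subsingleton_stalk p hp
      (ModuleCat.subsingleton_of_isZero ((DerSch.stalkFunctor X p).map_isZero (IsZero.of_epi_eq_zero _ hq)))
  have h1 : Module.finrank k (X.residueField p) = 1 := by omega
  haveI := hiso (by rw [hdeg, hdp, h1]; rfl)
  have hJP : J = P := by
    have h := (isZeroIdeal_idealModι P hI).comp_iso (asIso v) (Iso.refl _)
    rw [asIso_hom, Iso.refl_hom, Category.comp_id, hv] at h
    exact (isZeroIdeal_idealModι J hJ).unique hJ hO h
  have hb : Function.Bijective (Curv2.resMap k X p) := ⟨(Curv2.resMap k X p).injective, fun y => by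
    obtain ⟨c, hc⟩ := (finrank_eq_one_iff_of_nonzero' (1 : X.residueField p) one_ne_zero).1 h1 y
    exact ⟨c, by rw [← hc, Algebra.smul_def, mul_one]; rfl⟩⟩
  haveI : IsIso (CommRingCat.ofHom (Curv2.resMap k X p)) := (ConcreteCategory.isIso_iff_bijective _).2 hb
  obtain ⟨s, hs, hsp⟩ : ∃ s : Spec (CommRingCat.of k) ⟶ X, s ≫ (X ↘ Spec (CommRingCat.of k)) = 𝟙 _ ∧
      s (IsLocalRing.closedPoint k) = p := by
    refine ⟨Spec.map (inv (CommRingCat.ofHom (Curv2.resMap k X p))) ≫ X.fromSpecResidueField p, ?_, ?_⟩
    · rw [Category.assoc, GeomConn5.spec_resMap, ← Spec.map_comp, IsIso.hom_inv_id, Spec.map_id]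
    · generalize Spec.map (inv (CommRingCat.ofHom (Curv2.resMap k X p))) = w
      rw [Scheme.Hom.comp_apply]
      exact X.fromSpecResidueField_apply p _
  obtain ⟨hx, hker, -⟩ := CurveEmbed.section_point k s hs
  have hJs : J = s.ker := by
    rw [hJP, hker]
    exact congrArg Scheme.IdealSheafData.vanishingIdeal (Closeds.ext (congrArg (fun z => ({z} : Set X)) hsp.symm))
  haveI : IsClosedImmersion s := by
    haveI : IsClosedImmersion (s ≫ (X ↘ Spec (CommRingCat.of k))) := by rw [hs]; infer_instance
    exact IsClosedImmersion.of_comp s (X ↘ Spec (CommRingCat.of k))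
  subst hJs
  have key : s.toImage ≫ (s.ker.subschemeι ≫ (X ↘ Spec (CommRingCat.of k))) = 𝟙 _ := by
    rw [← Category.assoc]
    exact (congrArg (· ≫ _) s.toImage_imageι).trans hs
  haveI : IsIso (s.toImage ≫ (s.ker.subschemeι ≫ (X ↘ Spec (CommRingCat.of k)))) := by rw [key]; infer_instance
  exact IsIso.of_isIso_comp_left s.toImage _

include k in
/-- On a curve of genus one a module of degree one has one section and no first cohomology. -/
theorem cohomology_deg_one [GeometricallyConnected (X ↘ Spec (CommRingCat.of k))] (hdim : topologicalKrullDim X = 1)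
    (hg : Curv2.euler k X (Coh.structureModule X) = 0) {N : X.Modules} (hN : PicF.IsInvertible N)
    (hd : Curv2.deg k X N 1 = 1) :
    Module.finrank k (Coh.HH X N 0) = 1 ∧ Module.finrank k (Coh.HH X N 1) = 0 := by
  haveI := CurveCohLib.isNoetherian_of_proper (k := k) (X := X)
  haveI := GrpSchLib.geometricallyReduced_of_smooth (X ↘ Spec (CommRingCat.of k))
  have hO : Module.finrank k (Coh.HH X (Coh.structureModule X) 0) = 1 := S1536.result k X
  have hgen : Curv2.genus k X = 1 := by
    have h := CurveRR.euler_eq_h0_sub_h1 k hdim.le (QCoh.isCoh_structureModule' (X := X)).1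
    rw [hg, hO] at h
    show Module.finrank k (Coh.HH X (Coh.structureModule X) 1) = 1
    omega
  have h0 := CurveNondeg.h0_eq_deg k hO hdim hgen hN (by omega)
  have h1 := CurveRR.euler_eq_h0_sub_h1 k hdim.le (ProjUPX.isQCoh_of_isInvertible hN)
  unfold Curv2.deg at hd h0
  push_cast at hd h0
  omega

end Groth.Agent.GenusOneX
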