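import Groth.Agent.GenusOneX.Group
import Groth.Agent.SmoothCrit.Sch
import Groth.Agent.S1536

/-!
# Curves of genus one over a field, and genus one in terms of the first cohomology of the fibres
-/

set_option autoImplicit false
set_option maxHeartbeats 1600000
set_option linter.style.haveILetI false
set_option linter.unusedSectionVars false
set_option backward.isDefEq.respectTransparency false
set_option backward.isDefEq.respectTransparency.types false

universe u

open CategoryTheory CategoryTheory.Limits AlgebraicGeometry TopologicalSpace

namespace Groth.Agent.GenusOneX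

open Groth.Agent

attribute [local instance] fibreOver

/-- Genus one is `h¹ = 1` on the fibres. -/
theorem euler_zero_of_h1 {E S : Scheme.{u}} (f : E ⟶ S) [IsProper f] [Smooth f] [GeometricallyConnected f]
    (h1 : ∀ s : S, Module.finrank (S.residueField s) (Coh.HH (f.fiber s) (Coh.structureModule (f.fiber s)) 1) = 1) (s : S) :
    FGA.eulerCharLE (S.residueField s) (f.fiber s) (Coh.structureModule (f.fiber s)) 1 = 0 := by
  haveI : IsProper (f.fiber s ↘ Spec (CommRingCat.of (S.residueField s))) :=
    inferInstanceAs (IsProper (pullback.snd f (S.fromSpecResidueField s)))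
  haveI : GeometricallyConnected (f.fiber s ↘ Spec (CommRingCat.of (S.residueField s))) :=
    inferInstanceAs (GeometricallyConnected (pullback.snd f (S.fromSpecResidueField s)))
  haveI : Smooth (f.fiber s ↘ Spec (CommRingCat.of (S.residueField s))) :=
    MorphismProperty.pullback_snd (P := @Smooth) f (S.fromSpecResidueField s) inferInstance
  haveI := GrpSchLib.geometricallyReduced_of_smooth (f.fiber s ↘ Spec (CommRingCat.of (S.residueField s)))
  have h0 := S1536.result (S.residueField s) (f.fiber s)
  show ∑ i ∈ Finset.range 2, _ = (0 : ℤ)
  rw [Finset.sum_range_succ, Finset.sum_range_one, h0, h1 s]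
  norm_num

theorem h1_fibre_field {K : Type u} [Field K] {X : Scheme.{u}} (q : X ⟶ Spec (CommRingCat.of K)) [IsProper q]
    (z : Spec (CommRingCat.of K)) :
    letI : X.Over (Spec (CommRingCat.of K)) := ⟨q⟩
    Module.finrank ((Spec (CommRingCat.of K)).residueField z) (Coh.HH (q.fiber z) (Coh.structureModule (q.fiber z)) 1) =
      Module.finrank K (Coh.HH X (Coh.structureModule X) 1) := by
  letI : X.Over (Spec (CommRingCat.of K)) := ⟨q⟩
  haveI : IsProper (X ↘ Spec (CommRingCat.of K)) := ‹IsProper q›
  haveI : IsNoetherian X := CurveCohLib.isNoetherian_of_proper (k := K) (X := X)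
  let g := (Spec (CommRingCat.of K)).fromSpecResidueField z
  let α : CommRingCat.of K ⟶ (Spec (CommRingCat.of K)).residueField z := Spec.preimage g
  letI : Algebra K ((Spec (CommRingCat.of K)).residueField z) := α.hom.toAlgebra
  have hpb : IsPullback (q.fiberι z) (q.fiber z ↘ Spec (CommRingCat.of ((Spec (CommRingCat.of K)).residueField z))) q
      (Spec.map α) := by
    rw [Spec.map_preimage]
    exact IsPullback.of_hasPullback q g
  exact CurveBC.finrank_hh_unit K ((Spec (CommRingCat.of K)).residueField z) (q.fiberι z) hpb 1

theorem smooth_of_dim {K : Type u} [Field K] {X : Scheme.{u}} (q : X ⟶ Spec (CommRingCat.of K)) [IsProper q] [Smooth q]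
    [GeometricallyIrreducible q] (hdim : topologicalKrullDim X = 1) :
    SmoothOfRelativeDimension 1 q ∧ GeometricallyConnected q := by
  haveI : Subsingleton (Spec (CommRingCat.of K)) := inferInstanceAs (Subsingleton (PrimeSpectrum K))
  haveI : IrreducibleSpace X := GeometricallyIrreducible.irreducibleSpace_of_subsingleton q
  exact ⟨SmoothCrit.smoothOfRelativeDimension_dim q 1 hdim,
    ⟨fun K' _ y Z fst snd h => by
      have : IrreducibleSpace Z := GeometricallyIrreducible.geometrically_irreducibleSpace y fst snd h
      infer_instance⟩⟩

end Groth.Agent.GenusOneX
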