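import Groth.Agent.GenusOneX.Group
import Groth.Agent.GenusOneX.Field
import Groth.Agent.CurveAlgEqLib.Family
import Groth.Agent.LineDesc.RelPic
import Groth.Agent.S12412
import Groth.Prelude.Def_AbDual
import Mathlib.AlgebraicGeometry.Sites.Fpqc

/-!
# The Abel map of a family of curves of genus one
-/

set_option autoImplicit false
set_option maxHeartbeats 1600000
set_option linter.style.haveILetI false
set_option linter.unusedSectionVars false
set_option backward.isDefEq.respectTransparency false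
set_option backward.isDefEq.respectTransparency.types false

universe u

open CategoryTheory CategoryTheory.Limits AlgebraicGeometry TopologicalSpace

namespace Groth.Agent.GenusOneX

open Groth.Agent Groth.Agent.H23 Groth.Agent.H23.PicMul
open scoped Groth.Agent.H23.PicMul

attribute [local instance] fibreOver

variable {E S : Scheme.{u}} (f : E ⟶ S) [IsProper f] [SmoothOfRelativeDimension 1 f] [GeometricallyConnected f]
  (hg : ∀ s : S, FGA.eulerCharLE (S.residueField s) (f.fiber s) (Coh.structureModule (f.fiber s)) 1 = 0)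
  (σ : S ⟶ E) (hσ : σ ≫ f = 𝟙 S)

/-- Degree zero classes lie in `Pic⁰`. -/
theorem isPicZeroCl_of_degZero {T : Over S} {u : (PicF.Cl (PicF.XT f T))ˣ} (hu : u ∈ degZero f T) :
    AbDual.IsPicZeroCl f T u.val := by
  obtain ⟨N, hN, hNu, hN0⟩ := hu
  refine ⟨N, hNu, hN, fun t Ω _ _ τ hτ => ?_⟩
  obtain rfl : τ (IsLocalRing.closedPoint Ω) = t := Set.mem_singleton_iff.1 (hτ ▸ Set.mem_range_self _)
  let q := PicF.XTproj f T
  let t := τ (IsLocalRing.closedPoint Ω)
  let α : T.left.residueField t ⟶ CommRingCat.of Ω := T.left.descResidueField (Scheme.stalkClosedPointTo τ)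
  have hα : Spec.map α ≫ T.left.fromSpecResidueField t = τ :=
    Scheme.descResidueField_stalkClosedPointTo_fromSpecResidueField Ω T.left τ
  letI : Algebra (T.left.residueField t) Ω := α.hom.toAlgebra
  letI : (pullback q τ).Over (Spec (CommRingCat.of Ω)) := ⟨pullback.snd q τ⟩
  haveI := smoothOfRelativeDimension_isStableUnderBaseChange 1
  haveI hp : IsProper (pullback q τ ↘ Spec (CommRingCat.of Ω)) := inferInstanceAs (IsProper (pullback.snd q τ))
  haveI hs1 : SmoothOfRelativeDimension 1 (pullback q τ ↘ Spec (CommRingCat.of Ω)) :=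
    MorphismProperty.pullback_snd (P := @SmoothOfRelativeDimension 1) q τ inferInstance
  haveI : Smooth (pullback q τ ↘ Spec (CommRingCat.of Ω)) := SmoothOfRelativeDimension.smooth 1 _
  haveI : GeometricallyConnected (pullback q τ ↘ Spec (CommRingCat.of Ω)) :=
    inferInstanceAs (GeometricallyConnected (pullback.snd q τ))
  haveI : IsIntegral (pullback q τ) := CurveStable.isIntegral_of_geometricallyConnected (k := Ω)
  haveI : SmoothOfRelativeDimension 1 (𝟙 (pullback q τ) ≫ (pullback q τ ↘ Spec (CommRingCat.of Ω))) := by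
    rw [Category.id_comp]; infer_instance
  have hdim : topologicalKrullDim ↥(pullback q τ : Scheme.{u}) = 1 :=
    SmoothCrit.eq_dim (k := Ω) (pullback q τ ↘ Spec (CommRingCat.of Ω)) (𝟙 _) 1
  haveI := fibre_isProper q t
  haveI : IsNoetherian (q.fiber t) := CurveCohLib.isNoetherian_of_proper (k := T.left.residueField t) (X := q.fiber t)
  let g : pullback q τ ⟶ q.fiber t :=
    pullback.lift (pullback.fst q τ) (pullback.snd q τ ≫ Spec.map α) (by rw [pullback.condition, Category.assoc, hα])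
  have hpb : IsPullback g (pullback q τ ↘ Spec (CommRingCat.of Ω))
      (q.fiber t ↘ Spec (CommRingCat.of (T.left.residueField t)))
      (Spec.map (CommRingCat.ofHom (algebraMap (T.left.residueField t) Ω))) := by
    refine IsPullback.of_right ?_ (pullback.lift_snd _ _ _) (IsPullback.of_hasPullback q (T.left.fromSpecResidueField t))
    rw [show g ≫ pullback.fst q (T.left.fromSpecResidueField t) = pullback.fst q τ from pullback.lift_fst _ _ _,
      show Spec.map (CommRingCat.ofHom (algebraMap (T.left.residueField t) Ω)) ≫ T.left.fromSpecResidueField t = τ from hα]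
    exact IsPullback.of_hasPullback q τ
  refine CurveAlgEqLib.isAlgEquivZero_of_deg_eq_zero Ω hdim (PicClLib.isInvertible_pullback _ hN) ?_
  have e : (Scheme.Modules.pullback g).obj ((Scheme.Modules.pullback (q.fiberι t)).obj N) ≅
      (Scheme.Modules.pullback (pullback.fst q τ)).obj N :=
    (Scheme.Modules.pullbackComp g (q.fiberι t)).app N ≪≫
      (Scheme.Modules.pullbackCongr (pullback.lift_fst _ _ _)).app N
  rw [← CurveRR.deg_congr Ω e 1, CurveBC.deg_eq (T.left.residueField t) Ω g hpb _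
    (ProjUPX.isQCoh_of_isInvertible (PicClLib.isInvertible_pullback _ hN)) 1]
  exact hN0 t

/-- Classes in `Pic⁰` have degree zero. -/
theorem degZero_of_isPicZeroCl {T : Over S} {c : PicF.Cl (PicF.XT f T)} (hc : AbDual.IsPicZeroCl f T c) :
    ∃ u ∈ degZero f T, u.val = c := by
  obtain ⟨L, rfl, hL, h0⟩ := hc
  refine ⟨(isUnit_cl hL).unit, ⟨L, hL, (IsUnit.unit_spec _).symm, fun t => ?_⟩, IsUnit.unit_spec _⟩
  haveI : Smooth f := SmoothOfRelativeDimension.smooth 1 f
  have h := S12412.result f (fibre_dim f) T L hL t (h0 t)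
  haveI := fibre_isProper (PicF.XTproj f T) t
  unfold Curv2.deg
  haveI : IsNoetherian ((PicF.XTproj f T).fiber t) :=
    CurveCohLib.isNoetherian_of_proper (k := T.left.residueField t) (X := (PicF.XTproj f T).fiber t)
  have hd := (fibre_dim (PicF.XTproj f T) t).le
  rw [EulerConst.euler_eq_eulerCharLE (T.left.residueField t) 1 hd
      (ProjUPX.isQCoh_of_isInvertible (PicClLib.isInvertible_pullback _ hL)),
    EulerConst.euler_eq_eulerCharLE (T.left.residueField t) 1 hd QCoh.isCoh_structureModule'.1]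
  push_cast
  rw [one_mul, sub_eq_zero]
  exact h

variable {P₀ : Over S} {φ₀ : ∀ T : Over S, PicF.Cl (PicF.XT f T) → (T ⟶ P₀)}
  (hP₀ : AbDual.IsRelPicZeroK Scheme.fppfPrecoverage f P₀ φ₀)

theorem isPicZeroCl_diffCl {T : Over S} (x : T ⟶ Over.mk f) : AbDual.IsPicZeroCl f T (diffCl f σ hσ x).val :=
  isPicZeroCl_of_degZero f (diffCl_mem f σ hσ x)

theorem map_diffCl {T T' : Over S} (g : T' ⟶ T) (x : T ⟶ Over.mk f) :
    PicF.pullCl (PicF.XTmap f g) (diffCl f σ hσ x).val = (diffCl f σ hσ (g ≫ x)).val := by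
  have h : Units.map (pullHom (PicF.XTmap f g)) (diffCl f σ hσ x) = diffCl f σ hσ (g ≫ x) := by
    rw [diffCl, diffCl, map_mul, map_inv, map_idCl, map_idCl, comp_pt]
  exact congrArg Units.val h

/-- The Abel map. -/
noncomputable abbrev abel (φ₀ : ∀ T : Over S, PicF.Cl (PicF.XT f T) → (T ⟶ P₀)) : Over.mk f ⟶ P₀ :=
  φ₀ (Over.mk f) (diffCl f σ hσ (𝟙 (Over.mk f))).val

include hP₀ in
theorem phi_diffCl {T : Over S} (x : T ⟶ Over.mk f) :
    φ₀ T (diffCl f σ hσ x).val = x ≫ abel f σ hσ φ₀ := by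
  rw [← hP₀.natural _ _ x _ (isPicZeroCl_diffCl f σ hσ _), map_diffCl, Category.comp_id]

include hg hP₀ in
theorem cancel_abel {T : Over S} (x y : T ⟶ Over.mk f) (h : x ≫ abel f σ hσ φ₀ = y ≫ abel f σ hσ φ₀) : x = y := by
  rw [← phi_diffCl f σ hσ hP₀, ← phi_diffCl f σ hσ hP₀] at h
  obtain ⟨R, hR, hRe⟩ := hP₀.locallyInjective T _ _ (isPicZeroCl_diffCl f σ hσ x) (isPicZeroCl_diffCl f σ hσ y) h
  obtain ⟨Ui, ui, hui, hfl, hfp, hsu⟩ := LineDesc.Rig.exists_small_cover hR
  haveI := hfl; haveI := hsu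
  haveI : Epi (Sigma.desc ui) := Flat.epi_of_flat_of_surjective _
  refine Over.OverMorphism.ext ((cancel_epi (Sigma.desc ui)).1 (Sigma.hom_ext _ _ fun t => ?_))
  have h1 := hRe (ui t) (hui t)
  rw [map_diffCl, map_diffCl, Units.val_inj] at h1
  have h2 : AbDual.ovrHom T (ui t) ≫ x = AbDual.ovrHom T (ui t) ≫ y :=
    (bijective_toPic f hg σ hσ _).1 (Subtype.ext (congrArg QuotientGroup.mk h1))
  rw [colimit.ι_desc_assoc, colimit.ι_desc_assoc]
  exact congrArg CommaMorphism.left h2

include hP₀ in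
/-- Classes which differ by the base have the same image. -/
theorem phi_congr {T : Over S} {u v : (PicF.Cl (PicF.XT f T))ˣ} (hu : u ∈ degZero f T) (hv : v ∈ degZero f T)
    (h : u⁻¹ * v ∈ base f T) : φ₀ T u.val = φ₀ T v.val := by
  obtain ⟨M, hM, hMv⟩ := h
  have hvu : v.val = u.val * PicF.pullCl (PicF.XTproj f T) (PicF.cl M) := by
    rw [show PicF.pullCl (PicF.XTproj f T) (PicF.cl M) = (u⁻¹ * v).val from hMv, ← Units.val_mul, mul_inv_cancel_left]
  choose U hU hUm using fun t => ThetaLib.exists_open_trivial (⟨M, rfl, hM⟩ : PicF.IsInvertibleCl (PicF.cl M)) t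
  let 𝒰 : T.left.OpenCover := T.left.openCoverOfIsOpenCover U
    (eq_top_iff.2 fun p _ => Opens.mem_iSup.2 ⟨p, hU p⟩)
  refine Over.OverMorphism.ext (Scheme.Cover.hom_ext 𝒰 _ _ fun t => ?_)
  let g : AbDual.ovr T (U t).ι ⟶ T := AbDual.ovrHom T (U t).ι
  have h1 := hP₀.natural T _ g _ (isPicZeroCl_of_degZero f hv)
  have h2 := hP₀.natural T _ g _ (isPicZeroCl_of_degZero f hu)
  have e : PicF.pullCl (PicF.XTmap f g) v.val = PicF.pullCl (PicF.XTmap f g) u.val := by
    rw [hvu, H23.PicMul.pullCl_mul, PicClLib.pullCl_comp,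
      (LineDesc.Rig.isPullback_XTmap (f := f) g).w, ← PicClLib.pullCl_comp]
    show _ * PicF.pullCl _ (PicF.pullCl (U t).ι (PicF.cl M)) = _
    rw [hUm, H23.PicMul.pullCl_one, _root_.mul_one]
  rw [e] at h1
  exact congrArg CommaMorphism.left (h2.symm.trans h1)

include hg hP₀ in
/-- The Abel map is an isomorphism. -/
theorem isIso_abel : IsIso (abel f σ hσ φ₀).left := by
  obtain ⟨R, hR, hRe⟩ := hP₀.locallySurjective P₀ (𝟙 P₀)
  obtain ⟨Ui, ui, hui, hfl, hfp, hsu⟩ := LineDesc.Rig.exists_small_cover hR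
  haveI := hfl; haveI := hfp; haveI := hsu
  have hex : ∀ t, ∃ x : AbDual.ovr P₀ (ui t) ⟶ Over.mk f, x ≫ abel f σ hσ φ₀ = AbDual.ovrHom P₀ (ui t) := fun t => by
    obtain ⟨c, hc, hφ⟩ := hRe (ui t) (hui t)
    obtain ⟨u, hu, rfl⟩ := degZero_of_isPicZeroCl f hc
    obtain ⟨x, hx⟩ := (bijective_toPic f hg σ hσ _).2 ⟨QuotientGroup.mk u, u, hu, rfl⟩
    refine ⟨x, ?_⟩
    rw [← phi_diffCl f σ hσ hP₀, phi_congr f hP₀ (diffCl_mem f σ hσ x) hu (QuotientGroup.eq.1 (congrArg Subtype.val hx)),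
      hφ, Category.comp_id]
  choose x hx using hex
  let sV : ∐ Ui ⟶ E := Sigma.desc fun t => (x t).left
  have hsVf : sV ≫ f = Sigma.desc ui ≫ P₀.hom := Sigma.hom_ext _ _ fun t => by
    rw [colimit.ι_desc_assoc, colimit.ι_desc_assoc]
    exact Over.w (x t)
  have hsVa : sV ≫ (abel f σ hσ φ₀).left = Sigma.desc ui := Sigma.hom_ext _ _ fun t => by
    rw [colimit.ι_desc_assoc, colimit.ι_desc]
    exact congrArg CommaMorphism.left (hx t)
  have hcomp : ∀ {Z : Scheme.{u}} (g₁ g₂ : Z ⟶ ∐ Ui), g₁ ≫ Sigma.desc ui = g₂ ≫ Sigma.desc ui → g₁ ≫ sV = g₂ ≫ sV := by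
    intro Z g₁ g₂ h
    let ζ : Over S := Over.mk (g₁ ≫ Sigma.desc ui ≫ P₀.hom)
    let y₁ : ζ ⟶ Over.mk f := Over.homMk (g₁ ≫ sV) (show (g₁ ≫ sV) ≫ f = _ by rw [Category.assoc, hsVf]; rfl)
    let y₂ : ζ ⟶ Over.mk f := Over.homMk (g₂ ≫ sV) (show (g₂ ≫ sV) ≫ f = _ by
      rw [Category.assoc, hsVf, ← Category.assoc, ← h, Category.assoc]; rfl)
    refine congrArg CommaMorphism.left (cancel_abel f hg σ hσ hP₀ y₁ y₂ (Over.OverMorphism.ext ?_))
    show (g₁ ≫ sV) ≫ _ = (g₂ ≫ sV) ≫ _
    rw [Category.assoc, Category.assoc, hsVa, h]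
  let s := EffectiveEpi.desc (Sigma.desc ui) sV fun g₁ g₂ h => hcomp g₁ g₂ h
  have hs : Sigma.desc ui ≫ s = sV := EffectiveEpi.fac _ _ _
  have hsa : s ≫ (abel f σ hσ φ₀).left = 𝟙 P₀.left := by
    rw [← cancel_epi (Sigma.desc ui), ← Category.assoc, hs, hsVa, Category.comp_id]
  refine ⟨s, ?_, hsa⟩
  have hw : ((abel f σ hσ φ₀).left ≫ s) ≫ f = f := by
    have h1 : s ≫ f = P₀.hom := by rw [← cancel_epi (Sigma.desc ui), ← Category.assoc, hs, hsVf]
    rw [Category.assoc, h1]
    exact Over.w (abel f σ hσ φ₀)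
  refine congrArg CommaMorphism.left (cancel_abel f hg σ hσ hP₀ (Over.homMk ((abel f σ hσ φ₀).left ≫ s) hw) (𝟙 _)
    (Over.OverMorphism.ext ?_))
  show ((abel f σ hσ φ₀).left ≫ s) ≫ _ = 𝟙 _ ≫ _
  rw [Category.assoc, hsa, Category.comp_id, Category.id_comp]

/-- The class in the statement of the Abel map. -/
theorem diffCl_id_eq (LΔ : (PicF.XT f (Over.mk f)).Modules)
    (hΔ : ClSub.IsInverseOf LΔ (ClSub.idealMod (pullback.diagonal f).ker)) :
    PicF.cl (CohB1.tensorMod LΔ ((Scheme.Modules.pullback (pullback.fst f f)).obj (ClSub.idealMod σ.ker))) =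
      (diffCl f σ hσ (𝟙 (Over.mk f))).val := by
  have hsct : sct f (𝟙 (Over.mk f)) = pullback.diagonal f :=
    pullback.hom_ext ((pullback.lift_fst _ _ _).trans (pullback.diagonal_fst f).symm)
      ((pullback.lift_snd _ _ _).trans (pullback.diagonal_snd f).symm)
  have hinv : ((idCl f (𝟙 (Over.mk f)))⁻¹).val = PicF.cl LΔ := Units.inv_eq_of_mul_eq_one_left (by
    rw [idCl_val, hsct]
    exact cl_eq_iff.2 hΔ)
  have hsq : IsPullback (pullback.fst f f) (pullback.snd f f) f f := IsPullback.of_hasPullback f f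
  have hc := comap_ker_section hsq hσ (sct_proj f (pt f σ hσ (Over.mk f))) (pullback.lift_fst _ _ _)
  have hi' := isInvertible_ker (PicF.XTproj f (Over.mk f)) (sct_proj f (pt f σ hσ (Over.mk f)))
  obtain ⟨e⟩ := CurveAlgEqLib.nonempty_pullback_idealMod (pullback.fst f f) (isInvertible_ker f hσ) (J := σ.ker) (hc ▸ hi')
  rw [diffCl, Units.val_mul, hinv, idCl_val, cl_tensor, mul_comm]
  exact congrArg (· * _) (cl_eq_iff.2 ⟨e ≪≫ eqToIso (by rw [hc])⟩)

/-- A smooth morphism whose fibres are connected curves has relative dimension one. -/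
theorem smoothOfRelativeDimension_of_fibres {X Y : Scheme.{u}} (g : X ⟶ Y) [IsProper g] [Smooth g]
    [GeometricallyConnected g] (hdim : ∀ y : Y, topologicalKrullDim ↥(g.fiber y) = 1) :
    SmoothOfRelativeDimension 1 g := by
  refine ⟨fun x => ?_⟩
  obtain ⟨U, hU, V, hV, hxV, e, hs⟩ := Smooth.exists_isStandardSmooth g x
  obtain ⟨m, hm⟩ : ∃ m, (g.appLE U V e).hom.IsStandardSmoothOfRelativeDimension m := by
    algebraize [(g.appLE U V e).hom]
    obtain ⟨ι, τ, _, _, ⟨P⟩⟩ := Algebra.IsStandardSmooth.out (R := Γ(Y, U)) (S := Γ(X, V)) (self := hs)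
    exact ⟨P.dimension, ι, τ, _, ‹_›, ⟨P, rfl⟩⟩
  refine ⟨U, hU, V, hV, hxV, e, ?_⟩
  haveI : IsAffine (V : Scheme.{u}) := hV
  haveI : IsAffine (U : Scheme.{u}) := hU
  haveI : SmoothOfRelativeDimension m (g.resLE U V e) := by
    rw [HasRingHomProperty.iff_of_isAffine (P := @SmoothOfRelativeDimension m)]
    refine RingHom.locally_of RingHom.isStandardSmoothOfRelativeDimension_respectsIso _ ?_
    exact (RingHom.isStandardSmoothOfRelativeDimension_respectsIso.arrow_mk_iso_iff (arrowResLEAppIso g U V e)).2 hm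
  haveI hV' : SmoothOfRelativeDimension m (V.ι ≫ g) := by
    rw [← Scheme.Hom.resLE_comp_ι g e]
    simpa using (inferInstance : SmoothOfRelativeDimension (m + 0) (g.resLE U V e ≫ U.ι))
  let y := g x
  let Z := g.fiber y
  haveI : IsProper (Z ↘ Spec (CommRingCat.of (Y.residueField y))) :=
    inferInstanceAs (IsProper (pullback.snd g (Y.fromSpecResidueField y)))
  haveI : Smooth (Z ↘ Spec (CommRingCat.of (Y.residueField y))) :=
    MorphismProperty.pullback_snd (P := @Smooth) g (Y.fromSpecResidueField y) inferInstance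
  haveI : GeometricallyConnected (Z ↘ Spec (CommRingCat.of (Y.residueField y))) :=
    inferInstanceAs (GeometricallyConnected (pullback.snd g (Y.fromSpecResidueField y)))
  haveI : IsIntegral Z := CurveStable.isIntegral_of_geometricallyConnected (k := Y.residueField y)
  let j := (g.fiberι y ⁻¹ᵁ V).ι
  haveI : Nonempty ((g.fiberι y ⁻¹ᵁ V : Z.Opens) : Scheme.{u}) := by
    obtain ⟨w, hw⟩ : x ∈ Set.range (g.fiberι y) := by rw [Scheme.Hom.range_fiberι]; rfl
    exact ⟨⟨w, show g.fiberι y w ∈ V by rw [hw]; exact hxV⟩⟩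
  haveI := smoothOfRelativeDimension_isStableUnderBaseChange m
  haveI : SmoothOfRelativeDimension m (j ≫ (Z ↘ Spec (CommRingCat.of (Y.residueField y)))) :=
    MorphismProperty.of_isPullback (P := @SmoothOfRelativeDimension m)
      ((isPullback_morphismRestrict (g.fiberι y) V).paste_vert (IsPullback.of_hasPullback g (Y.fromSpecResidueField y)))
      hV'
  have h1 := SmoothCrit.eq_dim (k := Y.residueField y) (Z ↘ Spec (CommRingCat.of (Y.residueField y))) j m
  rw [hdim y] at h1
  obtain rfl : 1 = m := by exact_mod_cast h1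
  exact hm

end Groth.Agent.GenusOneX
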