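import Groth.Agent.GenusOneX.Field
import Groth.Agent.S2501
import Groth.Agent.CurveEmbed.Equiv
import Mathlib.AlgebraicGeometry.AlgClosed.Basic

/-!
# Translations and involutions of a curve of genus one over an algebraically closed field
-/

set_option autoImplicit false
set_option maxHeartbeats 1600000
set_option linter.style.haveILetI false
set_option linter.unusedSectionVars false
set_option backward.isDefEq.respectTransparency false
set_option backward.isDefEq.respectTransparency.types false

universe u

open CategoryTheory CategoryTheory.Limits AlgebraicGeometry TopologicalSpace MonoidalCategory CartesianMonoidalCategory MonObj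

namespace Groth.Agent.GenusOneX

open Groth.Agent Groth.Agent.H23 Groth.Agent.H23.PicMul
open scoped Groth.Agent.H23.PicMul

attribute [local instance] fibreOver

variable {k : Type u} [Field k] [IsAlgClosed k] {X : Scheme.{u}} (p : X ⟶ Spec (CommRingCat.of k))
  [IsProper p] [SmoothOfRelativeDimension 1 p] [GeometricallyConnected p]
  (hg : ∀ s, FGA.eulerCharLE ((Spec (CommRingCat.of k)).residueField s) (p.fiber s) (Coh.structureModule (p.fiber s)) 1 = 0)

theorem curve_setup {Y : Scheme.{u}} (q : Y ⟶ Spec (CommRingCat.of k)) [IsIntegral Y] [IsProper q] [Smooth q]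
    (hdim : topologicalKrullDim Y = 1) (hgen : @Curv2.genus k _ Y ⟨q⟩ = 1) :
    SmoothOfRelativeDimension 1 q ∧ GeometricallyConnected q ∧
      ∀ s, FGA.eulerCharLE ((Spec (CommRingCat.of k)).residueField s) (q.fiber s) (Coh.structureModule (q.fiber s)) 1 = 0 := by
  haveI : GeometricallyConnected q := S2501.result _
  exact ⟨SmoothCrit.smoothOfRelativeDimension_dim q 1 hdim, inferInstance,
    euler_zero_of_h1 q fun s => (h1_fibre_field q s).trans hgen⟩

/-- The point of a closed point. -/
noncomputable def point (x : X) (hx : IsClosed ({x} : Set X)) : 𝟙_ (Over (Spec (CommRingCat.of k))) ⟶ Over.mk p :=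
  Over.homMk (pointOfClosedPoint p x hx) (pointOfClosedPoint_comp p x hx)

theorem point_left_apply (x : X) (hx : IsClosed ({x} : Set X)) (a : Spec (CommRingCat.of k)) :
    (point p x hx).left a = x := pointOfClosedPoint_apply p x hx a

theorem point_ext {a b : 𝟙_ (Over (Spec (CommRingCat.of k))) ⟶ Over.mk p}
    (h : a.left (IsLocalRing.closedPoint k) = b.left (IsLocalRing.closedPoint k)) : a = b :=
  Over.OverMorphism.ext (ext_of_apply_closedPoint_eq p (Over.w a) (Over.w b) h)

theorem ker_point_eq (x : X) (hx : IsClosed ({x} : Set X)) :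
    (point p x hx).left.ker = Scheme.IdealSheafData.vanishingIdeal ⟨{x}, hx⟩ := by
  letI : X.Over (Spec (CommRingCat.of k)) := ⟨p⟩
  haveI : IsSeparated (X ↘ Spec (CommRingCat.of k)) := (inferInstance : IsSeparated p)
  haveI : IsProper (X ↘ Spec (CommRingCat.of k)) := ‹IsProper p›
  haveI : Smooth (X ↘ Spec (CommRingCat.of k)) := SmoothOfRelativeDimension.smooth 1 p
  haveI : GeometricallyConnected (X ↘ Spec (CommRingCat.of k)) := ‹GeometricallyConnected p›
  haveI : IsIntegral X := CurveStable.isIntegral_of_geometricallyConnected (k := k)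
  obtain ⟨hc, hker, -⟩ := CurveEmbed.section_point (X := X) k (show Spec (CommRingCat.of k) ⟶ X from (point p x hx).left) (Over.w (point p x hx))
  refine hker.trans ?_
  exact congrArg Scheme.IdealSheafData.vanishingIdeal
    (Closeds.ext (congrArg (fun z => ({z} : Set X)) (point_left_apply p x hx _)))

variable (o : 𝟙_ (Over (Spec (CommRingCat.of k))) ⟶ Over.mk p)

/-- Translation. -/
noncomputable def transl (a : 𝟙_ (Over (Spec (CommRingCat.of k))) ⟶ Over.mk p) : Over.mk p ⟶ Over.mk p :=
  letI := grpObj p hg o.left (Over.w o)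
  (toUnit _ ≫ a) * 𝟙 (Over.mk p)

theorem one_eq_origin :
    letI := grpObj p hg o.left (Over.w o)
    (1 : 𝟙_ (Over (Spec (CommRingCat.of k))) ⟶ Over.mk p) = o :=
  (one_eq p hg o.left (Over.w o) _).trans (Over.OverMorphism.ext (Category.id_comp _))

theorem origin_transl (a : 𝟙_ (Over (Spec (CommRingCat.of k))) ⟶ Over.mk p) : o ≫ transl p hg o a = a := by
  letI := grpObj p hg o.left (Over.w o)
  rw [transl, MonObj.comp_mul, Category.comp_id, ← Category.assoc, toUnit_unique (o ≫ toUnit _) (𝟙 _),
    Category.id_comp]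
  conv_lhs => arg 2; rw [← one_eq_origin p hg o]
  exact _root_.mul_one a

theorem transl_transl (a b : 𝟙_ (Over (Spec (CommRingCat.of k))) ⟶ Over.mk p) :
    letI := grpObj p hg o.left (Over.w o)
    transl p hg o a ≫ transl p hg o b = transl p hg o (b * a) := by
  letI := grpObj p hg o.left (Over.w o)
  rw [transl, transl, transl, MonObj.comp_mul, Category.comp_id, ← Category.assoc,
    toUnit_unique (_ ≫ toUnit _) (toUnit _), MonObj.comp_mul, _root_.mul_assoc]

theorem transl_one :
    letI := grpObj p hg o.left (Over.w o)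
    transl p hg o 1 = 𝟙 _ := by
  letI := grpObj p hg o.left (Over.w o)
  rw [transl, MonObj.comp_one, _root_.one_mul]

/-- Translation, as an automorphism. -/
noncomputable def translIso (a : 𝟙_ (Over (Spec (CommRingCat.of k))) ⟶ Over.mk p) : Over.mk p ≅ Over.mk p :=
  letI := grpObj p hg o.left (Over.w o)
  { hom := transl p hg o a
    inv := transl p hg o a⁻¹
    hom_inv_id := by rw [transl_transl, inv_mul_cancel, transl_one]
    inv_hom_id := by rw [transl_transl, mul_inv_cancel, transl_one] }

/-- Reflection `x ↦ b - x`. -/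
noncomputable def refl (b : 𝟙_ (Over (Spec (CommRingCat.of k))) ⟶ Over.mk p) : Over.mk p ⟶ Over.mk p :=
  letI := grpObj p hg o.left (Over.w o)
  (toUnit _ ≫ b) * (𝟙 (Over.mk p))⁻¹

theorem refl_refl (b : 𝟙_ (Over (Spec (CommRingCat.of k))) ⟶ Over.mk p) :
    refl p hg o b ≫ refl p hg o b = 𝟙 _ := by
  letI := grpObj p hg o.left (Over.w o)
  rw [refl, MonObj.comp_mul, ← Category.assoc, toUnit_unique (_ ≫ toUnit _) (toUnit _), GrpObj.comp_inv,
    Category.comp_id, mul_inv_rev, inv_inv, mul_comm' p hg o.left (Over.w o) _ (𝟙 (Over.mk p)),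
    mul_inv_cancel_left]

/-- The reflection as an automorphism. -/
noncomputable def reflIso (b : 𝟙_ (Over (Spec (CommRingCat.of k))) ⟶ Over.mk p) : Over.mk p ≅ Over.mk p where
  hom := refl p hg o b
  inv := refl p hg o b
  hom_inv_id := refl_refl p hg o b
  inv_hom_id := refl_refl p hg o b

theorem comp_refl_mul (b r : 𝟙_ (Over (Spec (CommRingCat.of k))) ⟶ Over.mk p) :
    letI := grpObj p hg o.left (Over.w o)
    r * (r ≫ refl p hg o b) = b := by
  letI := grpObj p hg o.left (Over.w o)
  rw [refl, MonObj.comp_mul, ← Category.assoc, toUnit_unique (r ≫ toUnit _) (𝟙 _), Category.id_comp,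
    GrpObj.comp_inv, Category.comp_id, mul_comm' p hg o.left (Over.w o) _ b r⁻¹, mul_inv_cancel_left]

include hg in
/-- Addition of points is linear equivalence of divisors. -/
theorem cl_mul_of_mul_eq (a b c : 𝟙_ (Over (Spec (CommRingCat.of k))) ⟶ Over.mk p)
    (h : letI := grpObj p hg o.left (Over.w o); a * b = c) :
    PicF.cl (ClSub.idealMod a.left.ker) * PicF.cl (ClSub.idealMod b.left.ker) =
      PicF.cl (ClSub.idealMod c.left.ker) * PicF.cl (ClSub.idealMod o.left.ker) := by
  let T := 𝟙_ (Over (Spec (CommRingCat.of k)))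
  obtain ⟨M, hM, ⟨e⟩⟩ := (mul_eq_iff p hg o.left (Over.w o) T a b c).1 h
  let j : X ⟶ PicF.XT p T := pullback.lift (𝟙 X) p (by rw [Category.id_comp]; exact (Category.comp_id p).symm)
  have hj : IsPullback j p (PicF.XTproj p T) (𝟙 (Spec (CommRingCat.of k))) := by
    haveI : IsIso j := ⟨pullback.fst p T.hom, pullback.lift_fst _ _ _, pullback.hom_ext
      (by rw [Category.assoc, pullback.lift_fst, Category.comp_id, Category.id_comp])
      (by rw [Category.assoc, pullback.lift_snd, Category.id_comp, pullback.condition]; exact Category.comp_id _)⟩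
    exact IsPullback.of_horiz_isIso ⟨by rw [pullback.lift_snd, Category.comp_id]⟩
  have key : ∀ {q : Spec (CommRingCat.of k) ⟶ X} (s : T.left ⟶ PicF.XT p T), q ≫ p = 𝟙 _ →
      s ≫ PicF.XTproj p T = 𝟙 _ → s ≫ pullback.fst p T.hom = q →
      PicF.pullCl j (PicF.cl (ClSub.idealMod s.ker)) = PicF.cl (ClSub.idealMod q.ker) := by
    intro q s hq hs hsq
    have hc := comap_ker_section hj hs hq (pullback.hom_ext
      (by rw [Category.assoc, pullback.lift_fst, Category.comp_id, Category.assoc, hsq]; exact (Category.id_comp q).symm)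
      (by rw [Category.assoc, pullback.lift_snd, hq, Category.assoc, hs]; exact (Category.id_comp _).symm))
    obtain ⟨e'⟩ := CurveAlgEqLib.nonempty_pullback_idealMod j (J := s.ker) (isInvertible_ker (PicF.XTproj p T) hs)
      (hc ▸ isInvertible_ker p hq)
    exact cl_eq_iff.2 ⟨e' ≪≫ eqToIso (by rw [hc])⟩
  have hM1 : PicF.pullCl j (PicF.pullCl (PicF.XTproj p T) (PicF.cl M)) = 1 := by
    haveI : Subsingleton T.left := inferInstanceAs (Subsingleton (PrimeSpectrum k))
    obtain ⟨t⟩ := nonempty_iso_one hM (IsLocalRing.closedPoint k)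
    rw [show PicF.cl M = 1 from cl_eq_iff.2 ⟨t⟩, pullCl_one, pullCl_one]
  have h1 := congrArg (PicF.pullCl j) (cl_eq_iff.2 ⟨e⟩)
  simp only [cl_tensor, pullCl_mul] at h1
  rw [key _ (Over.w a) (sct_proj p a) (pullback.lift_fst _ _ _), key _ (Over.w b) (sct_proj p b) (pullback.lift_fst _ _ _),
    key _ (Over.w c) (sct_proj p c) (pullback.lift_fst _ _ _),
    key (q := o.left) (PicF.secT p o.left (Over.w o) T) (Over.w o) (pullback.lift_snd _ _ _)
      ((pullback.lift_fst _ _ _).trans (Category.id_comp _))] at h1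
  rw [show PicF.pullCl j (PicF.cl ((Scheme.Modules.pullback (PicF.XTproj p T)).obj M)) = 1 from hM1, _root_.mul_one] at h1
  exact h1

end Groth.Agent.GenusOneX
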