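import Groth.Agent.GenusOneX.Fibre
import Groth.Agent.RelEffX.Main
import Groth.Agent.EulerConst.Tau
import Groth.Agent.CohPullLib.BC0
import Groth.Agent.CohPullLib.PushStratum
import Groth.Agent.CohPullLib.NbhdExchange
import Groth.Agent.CohPullLib.RankChart
import Groth.Agent.CohPullLib.ModelExchange
import Groth.Agent.Lib.CurveDualPrep
import Groth.Agent.Lib.CurveStable
import Groth.Agent.Lib.InvEnd
import Groth.Agent.H23.Seesaw
import Groth.Agent.SmoothCrit.Sch
import Groth.Agent.CurveAlgEqLib.IdealPull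
import Groth.Agent.TorsPic.Iso
import Groth.Agent.SecDiv.Section

/-!
# Sections and divisors of degree one on a family of curves of genus one
-/

set_option autoImplicit false
set_option maxHeartbeats 1600000
set_option linter.style.haveILetI false
set_option linter.unusedSectionVars false
set_option backward.isDefEq.respectTransparency false
set_option backward.isDefEq.respectTransparency.types false

universe u

open CategoryTheory CategoryTheory.Limits AlgebraicGeometry TopologicalSpace Opposite

namespace Groth.Agent.GenusOneX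

open Groth.Agent InvX ZeroMapX

theorem isEffCartier_of_ne_zero {X : Scheme.{u}} [IsIntegral X] {A B : X.Modules} {φ : A ⟶ B}
    (hA : PicF.IsInvertible A) (hB : PicF.IsInvertible B) (hφ : φ ≠ 0) {I : X.IdealSheafData}
    (hI : IsZeroIdeal φ I) : BlowUp.IsEffCartierIdeal I := fun x => by
  obtain ⟨U, a, b, c, hxU, ha, hb, hc⟩ := exists_local φ hA hB x
  haveI : Nonempty U.1.toScheme := ⟨⟨x, hxU⟩⟩
  refine ⟨U, hxU, c, mem_nonZeroDivisors_of_ne_zero fun h0 => ?_, hI.ideal_eq U ha hb hc⟩
  have ha0 : a = 0 := InvEnd.app_injective_of_ne_zero hA hB φ hφ U.1 (by rw [hc, h0, zero_smul, map_zero])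
  haveI : Nontrivial (X.presheaf.stalk x) := inferInstance
  have h1 := (ha.germ_bijective hxU).1 (show (1 : X.presheaf.stalk x) • _ = (0 : X.presheaf.stalk x) • _ by
    rw [one_smul, zero_smul, ha0, map_zero])
  exact one_ne_zero h1

variable {E S : Scheme.{u}} (f : E ⟶ S) [IsProper f] [SmoothOfRelativeDimension 1 f] [GeometricallyConnected f]

/-- The fibre over its residue field. -/
@[reducible] noncomputable def fibreOver {E S : Scheme.{u}} (f : E ⟶ S) (s : S) :
    (f.fiber s).Over (Spec (CommRingCat.of (S.residueField s))) :=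
  f.fiberOverSpecResidueField s

attribute [local instance] fibreOver

theorem flat_lfp : Flat f ∧ LocallyOfFinitePresentation f := by
  haveI : Smooth f := SmoothOfRelativeDimension.smooth 1 f
  exact ⟨inferInstance, inferInstance⟩

theorem flat_of_family : Flat f := (flat_lfp f).1

theorem lfp_of_family : LocallyOfFinitePresentation f := (flat_lfp f).2

attribute [local instance] flat_of_family lfp_of_family

theorem fibre_isProper (s : S) : IsProper (f.fiber s ↘ Spec (CommRingCat.of (S.residueField s))) :=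
  inferInstanceAs (IsProper (pullback.snd f (S.fromSpecResidueField s)))

theorem fibre_geomConn (s : S) : GeometricallyConnected (f.fiber s ↘ Spec (CommRingCat.of (S.residueField s))) :=
  inferInstanceAs (GeometricallyConnected (pullback.snd f (S.fromSpecResidueField s)))

theorem fibre_smooth (s : S) : SmoothOfRelativeDimension 1 (f.fiber s ↘ Spec (CommRingCat.of (S.residueField s))) :=
  haveI := smoothOfRelativeDimension_isStableUnderBaseChange 1
  MorphismProperty.pullback_snd (P := @SmoothOfRelativeDimension 1) f (S.fromSpecResidueField s) inferInstance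

theorem fibre_isIntegral (s : S) : IsIntegral (f.fiber s) := by
  haveI := fibre_isProper f s
  haveI := fibre_geomConn f s
  haveI := fibre_smooth f s
  haveI : Smooth (f.fiber s ↘ Spec (CommRingCat.of (S.residueField s))) := SmoothOfRelativeDimension.smooth 1 _
  exact CurveStable.isIntegral_of_geometricallyConnected (k := S.residueField s)

theorem fibre_dim (s : S) : topologicalKrullDim (f.fiber s) = 1 := by
  haveI := fibre_isProper f s
  haveI := fibre_smooth f s
  haveI := fibre_isIntegral f s
  haveI : Smooth (f.fiber s ↘ Spec (CommRingCat.of (S.residueField s))) := SmoothOfRelativeDimension.smooth 1 _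
  haveI : SmoothOfRelativeDimension 1 (𝟙 (f.fiber s) ≫ (f.fiber s ↘ Spec (CommRingCat.of (S.residueField s)))) := by
    rw [Category.id_comp]; infer_instance
  exact SmoothCrit.eq_dim (k := S.residueField s) (f.fiber s ↘ Spec (CommRingCat.of (S.residueField s))) (𝟙 _) 1

theorem euler_eq_zero (hg : ∀ s : S, FGA.eulerCharLE (S.residueField s) (f.fiber s)
      (Coh.structureModule (f.fiber s)) 1 = 0) (s : S) :
    Curv2.euler (S.residueField s) (f.fiber s) (Coh.structureModule (f.fiber s)) = 0 := by
  haveI := fibre_isProper f s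
  haveI := CurveCohLib.isNoetherian_of_proper (k := S.residueField s) (X := f.fiber s)
  rw [EulerConst.euler_eq_eulerCharLE (S.residueField s) 1 (fibre_dim f s).le (QCoh.isCoh_structureModule' (X := f.fiber s)).1]
  exact hg s

/-- Invertible modules of degree one on every fibre. -/
def IsDegOne (N : E.Modules) : Prop := PicF.IsInvertible N ∧
  ∀ s : S, Curv2.deg (S.residueField s) (f.fiber s) ((Scheme.Modules.pullback (f.fiberι s)).obj N) 1 = 1

variable (hg : ∀ s : S, FGA.eulerCharLE (S.residueField s) (f.fiber s) (Coh.structureModule (f.fiber s)) 1 = 0)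
  {N : E.Modules} (hN : IsDegOne f N)

include hg hN in
theorem fiberRank_eq (s : S) :
    CohIII.fiberRank f N 0 s = 1 ∧ Subsingleton (CohIII.fiberH f N s 1) := by
  haveI := fibre_isProper f s
  haveI := fibre_geomConn f s
  haveI := fibre_smooth f s
  haveI := fibre_isIntegral f s
  haveI : Smooth (f.fiber s ↘ Spec (CommRingCat.of (S.residueField s))) := SmoothOfRelativeDimension.smooth 1 _
  have hi := PicClLib.isInvertible_pullback (f.fiberι s) hN.1
  obtain ⟨h0, h1⟩ := cohomology_deg_one (S.residueField s) (fibre_dim f s) (euler_eq_zero f hg s) hi (hN.2 s)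
  refine ⟨h0, ?_⟩
  haveI := CurveCohLib.isNoetherian_of_proper (k := S.residueField s) (X := f.fiber s)
  haveI := CurveCohLib.finite_HH (k := S.residueField s) (X := f.fiber s) (CurveDeg.isCoh_of_isInvertible hi) 1
  exact Module.finrank_zero_iff.1 h1

include hg hN in
theorem exchAt (s : S) : CohPullLib.ExchAt f N 0 s :=
  (CohPullLib.vanAt_of_subsingleton (ProjUPX.isQCoh_of_isInvertible hN.1)
    (QCoh.isFP_of_isFinLocFree fun x =>
      let ⟨U, hx, e⟩ := InvEnd.isFinLocFreeOfRank_one hN.1 x
      ⟨U, 1, hx, e⟩)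
    (H23.Seesaw.isFlatOver_of_isInvertible f hN.1) 1 (fiberRank_eq f hg hN s).2).exchAt_pred

/-- An invertible module of degree one whose direct image is a line bundle commuting with base change. -/
structure HasOneSection (N : E.Modules) : Prop where
  inv : PicF.IsInvertible N
  deg : ∀ s : S, Curv2.deg (S.residueField s) (f.fiber s) ((Scheme.Modules.pullback (f.fiberι s)).obj N) 1 = 1
  rank : ∀ s : S, CohIII.fiberRank f N 0 s = 1
  exch : ∀ s : S, CohPullLib.ExchAt f N 0 s

include hg hN in
theorem hasOneSection : HasOneSection f N :=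
  ⟨hN.1, hN.2, fun s => (fiberRank_eq f hg hN s).1, exchAt f hg hN⟩

variable {f} {N : E.Modules} (h1N : HasOneSection f N)

include h1N in
theorem isInvertible_push : PicF.IsInvertible ((Scheme.Modules.pushforward f).obj N) := by
  have hNq := ProjUPX.isQCoh_of_isInvertible h1N.inv
  refine CurveDuality.isInvertible_of_rank_one (CohPullLib.isFinLocFreeOfRank_of_sections
    (QCoh.isQCoh_pushforward f hNq) fun t => ?_)
  obtain ⟨V, hV, P, ht, hP, hepi⟩ := h1N.exch t
  obtain ⟨h1, h2, h3⟩ := CohPullLib.sections_push_of_preservesEpi hNq hP hepi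
  refine ⟨V, hV, ht, h1, h2, fun Q => ?_⟩
  obtain ⟨v, hv, rfl⟩ : ∃ (v : S) (hv : v ∈ V), hV.primeIdealOf ⟨v, hv⟩ = Q :=
    ⟨hV.fromSpec Q, by rw [← SetLike.mem_coe, ← hV.range_fromSpec]; exact Set.mem_range_self _,
      hV.fromSpec.isOpenEmbedding.injective (hV.fromSpec_primeIdealOf _)⟩
  rw [h3 v hv]
  exact h1N.rank v

/-- The evaluation `f^* f_* N ⟶ N`. -/
noncomputable abbrev ev (f : E ⟶ S) (N : E.Modules) : (Scheme.Modules.pullback f).obj ((Scheme.Modules.pushforward f).obj N) ⟶ N :=
  (Scheme.Modules.pullbackPushforwardAdjunction f).counit.app N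

theorem ev_pullElt (f : E ⟶ S) (N : E.Modules) {V : S.Opens} (n : Γ((Scheme.Modules.pushforward f).obj N, V)) :
    (ev f N).app (f ⁻¹ᵁ V) (pullElt f n) = (show Γ(N, f ⁻¹ᵁ V) from n) := by
  have h := congrArg (fun φ => φ.app V n) ((Scheme.Modules.pullbackPushforwardAdjunction f).right_triangle_components N)
  exact h

include h1N in
theorem map_ev_ne_zero (s : S) : (Scheme.Modules.pullback (f.fiberι s)).map (ev f N) ≠ 0 := by
  intro hz
  obtain ⟨V, hsV, n, hn⟩ := exists_frame (isInvertible_push h1N) s
  let g := S.fromSpecResidueField s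
  let g' := f.fiberι s
  let f' := f.fiberToSpecResidueField s
  have h : IsPullback g' f' f g := IsPullback.of_hasPullback f g
  have hle : (⊤ : (Spec (CommRingCat.of (S.residueField s))).Opens) ≤ g ⁻¹ᵁ V := fun z _ => by
    show g z ∈ V
    rw [S.fromSpecResidueField_apply s z]
    exact hsV
  haveI := CohPullLib.isIso_bc0_of_exchAt h (ProjUPX.isQCoh_of_isInvertible h1N.inv) (fun z => by
    rw [show g z = s from S.fromSpecResidueField_apply s z]; exact h1N.exch s)
  have h1 : (CohBC.bc0 f g f' g' h.w N).app ⊤ (QCoh.pullSec g ((Scheme.Modules.pushforward f).obj N) hle n) = 0 := by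
    rw [CohPullLib.bc0_app_pullSec h.w N hle]
    have h2 : pullElt g' (show Γ(N, f ⁻¹ᵁ V) from n) = 0 := by
      rw [← ev_pullElt f N n, ← ThetaLib.map_pullElt g' (ev f N) (pullElt f n), hz]
      rfl
    show ((Scheme.Modules.pullback g').obj N).presheaf.map _ (pullElt g' (show Γ(N, f ⁻¹ᵁ V) from n)) = 0
    rw [h2, map_zero]
  have h3 : QCoh.pullSec g ((Scheme.Modules.pushforward f).obj N) hle n = 0 :=
    (ConcreteCategory.bijective_of_isIso ((CohBC.bc0 f g f' g' h.w N).app ⊤)).1 (h1.trans (map_zero _).symm)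
  have h4 : IsFrame (AModX.res ((Scheme.Modules.pullback g).obj ((Scheme.Modules.pushforward f).obj N)) hle (pullElt g n)) :=
    (isFrame_pullElt g hn).res hle
  let z : Spec (S.residueField s) := IsLocalRing.closedPoint (S.residueField s)
  have h5 := (h4.germ_bijective (x := z) trivial).1 (show (1 : (Spec (CommRingCat.of (S.residueField s))).presheaf.stalk z) • _ = (0 : _) • _ by
    rw [one_smul, zero_smul, show AModX.res _ hle (pullElt g n) = 0 from h3, map_zero])
  exact one_ne_zero h5

/-- An invertible module on the spectrum of a field is trivial. -/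
theorem nonempty_iso_one {Y : Scheme.{u}} [Subsingleton Y] {M : Y.Modules} (hM : PicF.IsInvertible M) (y : Y) :
    Nonempty (M ≅ Coh.structureModule Y) := by
  obtain ⟨U, hy, e, he⟩ := exists_frame hM y
  refine TorsPic.nonempty_iso_of_frames (ι := PUnit) (fun _ => U) (fun z => ⟨⟨⟩, Subsingleton.elim y z ▸ hy⟩)
    (fun _ => e) (fun _ => he) (fun _ => (show Γ(Coh.structureModule Y, U) from (1 : Γ(Y, U)))) (fun _ => isFrame_one U)
    fun _ _ W ha hb g hg => ?_
  have h1 : g = 1 := he.coord_unique ha (hg.symm.trans (one_smul _ _).symm)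
  rw [h1, one_smul]

/-- What is pulled back from the base is trivial on the fibres. -/
theorem deg_pullback_base (f : E ⟶ S) [IsProper f] [SmoothOfRelativeDimension 1 f] [GeometricallyConnected f] (s : S) {M : S.Modules} (hM : PicF.IsInvertible M) :
    Curv2.deg (S.residueField s) (f.fiber s)
      ((Scheme.Modules.pullback (f.fiberι s)).obj ((Scheme.Modules.pullback f).obj M)) 1 = 0 := by
  haveI := fibre_isProper f s
  haveI := fibre_isIntegral f s
  let g := S.fromSpecResidueField s
  let f' := f.fiberToSpecResidueField s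
  obtain ⟨e⟩ := nonempty_iso_one (PicClLib.isInvertible_pullback g hM) (IsLocalRing.closedPoint (S.residueField s))
  obtain ⟨e'⟩ := PicClLib.nonempty_pullback_structureModule f'
  let a : (Scheme.Modules.pullback (f.fiberι s)).obj ((Scheme.Modules.pullback f).obj M) ≅ Coh.structureModule (f.fiber s) :=
    (Scheme.Modules.pullbackComp (f.fiberι s) f).app M ≪≫ (Scheme.Modules.pullbackCongr (f.fiber_fac s)).app M ≪≫
      ((Scheme.Modules.pullbackComp f' g).app M).symm ≪≫ (Scheme.Modules.pullback f').mapIso e ≪≫ e'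
  rw [CurveRR.deg_congr (S.residueField s) a 1, CurveDeg.deg_structureModule]

include h1N in
/-- A family of modules of degree one is the twist of a base module by a section. -/
theorem exists_section : ∃ P : S ⟶ E, P ≫ f = 𝟙 S ∧ BlowUp.IsEffCartierIdeal P.ker ∧
    Nonempty ((Scheme.Modules.pullback f).obj ((Scheme.Modules.pushforward f).obj N) ≅
      CohB1.tensorMod (ClSub.idealMod P.ker) N) := by
  have hA := PicClLib.isInvertible_pullback f (isInvertible_push h1N)
  obtain ⟨Z, hZ⟩ := exists_isZeroIdeal (ev f N) hA h1N.inv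
  have hfib : ∀ s : S, BlowUp.IsEffCartierIdeal (Z.comap (f.fiberι s)) := fun s => by
    haveI := fibre_isIntegral f s
    exact isEffCartier_of_ne_zero (PicClLib.isInvertible_pullback _ hA) (PicClLib.isInvertible_pullback _ h1N.inv)
      (map_ev_ne_zero h1N s) (hZ.pullback hA h1N.inv (f.fiberι s))
  obtain ⟨hC, hfl⟩ := RelEffX.relEffCartier f Z (fun x _ => by
    obtain ⟨U, a, b, c, hxU, ha, hb, hc⟩ := exists_local (ev f N) hA h1N.inv x
    exact ⟨U, hxU, c, hZ.ideal_eq U ha hb hc⟩) hfib
  haveI := hfl
  obtain ⟨hq, hp⟩ := RelCurve.lqf_lfp_of_cartier f hC hfl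
  haveI := hq
  haveI := hp
  haveI : IsFinite (Z.subschemeι ≫ f) := IsFinite.of_isProper_of_locallyQuasiFinite _
  haveI : IsIso (Z.subschemeι ≫ f) := by
    refine (Scheme.Hom.isIso_iff_finrank_eq _).2 (funext fun s => ?_)
    haveI := fibre_isProper f s
    haveI := fibre_smooth f s
    haveI := fibre_isIntegral f s
    haveI : Smooth (f.fiber s ↘ Spec (CommRingCat.of (S.residueField s))) := SmoothOfRelativeDimension.smooth 1 _
    have hAs := PicClLib.isInvertible_pullback (f.fiberι s) hA
    have hBs := PicClLib.isInvertible_pullback (f.fiberι s) h1N.inv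
    have hJ := (S8914.result _).2 (hfib s)
    obtain ⟨e⟩ := nonempty_iso_of_isZeroIdeal hAs hBs (hZ.pullback hA h1N.inv (f.fiberι s)) (hfib s)
    have hdeg : Curv2.deg (S.residueField s) (f.fiber s) (ClSub.idealMod (Z.comap (f.fiberι s))) 1 = -1 := by
      have h1 := deg_pullback_base f s (isInvertible_push h1N)
      rw [CurveRR.deg_congr (S.residueField s) e 1] at h1
      have h2 := (CurveRR.deg_tensor (S.residueField s) (fibre_dim f s) hJ hBs).symm.trans h1
      rw [h1N.deg s] at h2
      omega
    haveI := isIso_subscheme_of_deg (S.residueField s) (fibre_dim f s) _ hJ hdeg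
    let g := S.fromSpecResidueField s
    have hpb : IsPullback ((Z.comapIso (f.fiberι s)).hom ≫ pullback.snd _ _)
        ((Z.comap (f.fiberι s)).subschemeι ≫ f.fiberToSpecResidueField s) (Z.subschemeι ≫ f) g := by
      refine IsPullback.paste_vert ?_ (IsPullback.of_hasPullback f g)
      refine IsPullback.of_iso_pullback ⟨?_⟩ (Z.comapIso (f.fiberι s) ≪≫ pullbackSymmetry _ _) ?_ ?_
      · show ((Z.comapIso (f.fiberι s)).hom ≫ pullback.snd _ _) ≫ Z.subschemeι = _ ≫ pullback.fst f g
        rw [Category.assoc, ← pullback.condition, ← Category.assoc, Z.comapIso_hom_fst]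
        rfl
      · rw [Iso.trans_hom, Category.assoc]
        exact congrArg _ (pullbackSymmetry_hom_comp_fst (f.fiberι s) Z.subschemeι)
      · rw [Iso.trans_hom, Category.assoc]
        exact (congrArg _ (pullbackSymmetry_hom_comp_snd (f.fiberι s) Z.subschemeι)).trans (Z.comapIso_hom_fst _)
    haveI : IsIso ((Z.comap (f.fiberι s)).subschemeι ≫ f.fiberToSpecResidueField s) := ‹_›
    have hr : (pullback.snd (Z.subschemeι ≫ f) g).finrank = 1 := by
      haveI : IsIso (pullback.snd (Z.subschemeι ≫ f) g) := by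
        rw [show pullback.snd (Z.subschemeι ≫ f) g = hpb.isoPullback.inv ≫
          ((Z.comap (f.fiberι s)).subschemeι ≫ f.fiberToSpecResidueField s) from (hpb.isoPullback_inv_snd).symm]
        infer_instance
      exact Scheme.Hom.finrank_eq_one_of_isIso _
    rw [← S.fromSpecResidueField_apply s (IsLocalRing.closedPoint (S.residueField s)),
      ← Scheme.Hom.finrank_pullback_snd, hr]
    rfl
  let P : S ⟶ E := inv (Z.subschemeι ≫ f) ≫ Z.subschemeι
  have hP : P ≫ f = 𝟙 S := by rw [Category.assoc, IsIso.inv_hom_id]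
  have hker : P.ker = Z := by
    rw [Scheme.Hom.ker_comp_of_isIso]
    exact Scheme.IdealSheafData.ker_subschemeι _
  refine ⟨P, hP, hker ▸ hC, ?_⟩
  rw [hker]
  exact nonempty_iso_of_isZeroIdeal hA h1N.inv hZ hC

theorem eq_of_ker_eq (f : E ⟶ S) [IsProper f] {P Q : S ⟶ E} (hP : P ≫ f = 𝟙 S) (hQ : Q ≫ f = 𝟙 S) (h : P.ker = Q.ker) : P = Q := by
  haveI : IsClosedImmersion Q := by
    haveI : IsClosedImmersion (Q ≫ f) := by rw [hQ]; infer_instance
    exact IsClosedImmersion.of_comp Q f
  let e := IsClosedImmersion.lift Q P h.ge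
  have he : e ≫ Q = P := IsClosedImmersion.lift_fac _ _ _
  have h1 : e = 𝟙 S := by
    rw [← hP, ← he, Category.assoc, hQ, Category.comp_id]
  rw [← he, h1, Category.id_comp]

include h1N in
/-- The section attached to a family of degree one is unique. -/
theorem ker_eq_zeroIdeal {Z : E.IdealSheafData} (hZ : IsZeroIdeal (ev f N) Z) {P : S ⟶ E} (hP : P ≫ f = 𝟙 S)
    {M : S.Modules} (hM : PicF.IsInvertible M)
    (i : (Scheme.Modules.pullback f).obj M ≅ CohB1.tensorMod (ClSub.idealMod P.ker) N) : P.ker = Z := by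
  have hIi : PicF.IsInvertible (ClSub.idealMod P.ker) := (S8914.result _).2 (SecDiv.isEffCartierIdeal_ker_section f P hP)
  haveI : IsClosedImmersion P := by
    haveI : IsClosedImmersion (P ≫ f) := by rw [hP]; infer_instance
    exact IsClosedImmersion.of_comp P f
  have hA := PicClLib.isInvertible_pullback f hM
  obtain ⟨c₀⟩ := H23.PicMul.comm (Coh.structureModule E) N
  let lam : (AmpleVan.tw N).obj (Coh.structureModule E) ≅ N := c₀ ≪≫ KFlatLib.tensorUnitIso N
  let j : (Scheme.Modules.pullback f).obj M ⟶ N :=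
    i.hom ≫ (AmpleVan.tw N).map (ClSub.idealModι P.ker) ≫ lam.hom
  have hj : IsZeroIdeal j P.ker := (isZeroIdeal_twist P.ker hIi h1N.inv).comp_iso i lam
  let adj := Scheme.Modules.pullbackPushforwardAdjunction f
  let a : M ⟶ (Scheme.Modules.pushforward f).obj N := adj.homEquiv M N j
  have hja : (Scheme.Modules.pullback f).map a ≫ ev f N = j := by
    have h := adj.homEquiv_counit (X := M) (Y := N) a
    exact h.symm.trans ((adj.homEquiv M N).symm_apply_apply j)
  refine IsZeroIdeal.unique (PicClLib.isInvertible_pullback f (isInvertible_push h1N)) h1N.inv ?_ hZ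
  intro x U hx m' b' c' hm' hb' hc'
  obtain ⟨V₀, hV₀, m, n, hm, hn⟩ := exists_frame₂ hM (isInvertible_push h1N) (f x)
  obtain ⟨t, ht⟩ := hn.exists_coord le_rfl (a.app V₀ m)
  rw [AModX.res_self] at ht
  have ht1 : ∀ (s : S) (hs : s ∈ V₀), IsUnit (S.presheaf.germ V₀ s hs t) := by
    intro s hs
    by_contra hu
    let g := S.fromSpecResidueField s
    let g' := f.fiberι s
    let f' := f.fiberToSpecResidueField s
    have hall : ∀ w : f.fiber s, g' w ∈ f ⁻¹ᵁ V₀ := fun w => by
      show f (g' w) ∈ V₀
      have h1 : f (g' w) = g (f' w) := congrArg (fun φ : f.fiber s ⟶ S => φ w) (f.fiber_fac s)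
      rw [h1, S.fromSpecResidueField_apply]
      exact hs
    have hsupp : ∀ w : f.fiber s, w ∈ ((P.ker.comap g').support : Set (f.fiber s)) := by
      intro w
      by_contra hw
      have hst := (Div21Lib.notMem_support_iff _ w).1 hw
      obtain ⟨U₁, b₁, hxU₁, hb₁⟩ := InvX.exists_frame h1N.inv (g' w)
      let W := f ⁻¹ᵁ V₀ ⊓ U₁
      have hwW : g' w ∈ W := ⟨hall w, b₁⟩
      obtain ⟨d, hd⟩ := (hb₁.res (inf_le_right : W ≤ U₁)).exists_coord le_rfl
        ((ev f N).app W (AModX.res _ (inf_le_left : W ≤ f ⁻¹ᵁ V₀) (pullElt f n)))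
      rw [AModX.res_self] at hd
      have hjc : j.app W (AModX.res _ (inf_le_left : W ≤ f ⁻¹ᵁ V₀) (pullElt f m)) =
          (AModX.resR (inf_le_left : W ≤ f ⁻¹ᵁ V₀) (f.app V₀ t) * d) • AModX.res N (inf_le_right : W ≤ U₁) hxU₁ := by
        rw [← hja]
        show (ev f N).app W (((Scheme.Modules.pullback f).map a).app W (AModX.res _ _ (pullElt f m))) = _
        rw [AModX.app_res, map_pullElt_smul f a ht, AModX.res_smul, Scheme.Modules.Hom.app_smul, hd, mul_smul]
      have hst2 := (hj.pullback hA h1N.inv g') w (g' ⁻¹ᵁ W) hwW _ _ _ (isFrame_pullElt g' ((isFrame_pullElt f hm).res _))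
        (isFrame_pullElt g' (hb₁.res _)) (map_pullElt_smul g' j hjc)
      rw [hst, eq_comm, Ideal.span_singleton_eq_top, map_mul, map_mul] at hst2
      have hu1 := isUnit_of_mul_isUnit_left hst2
      rw [← Scheme.Hom.germ_stalkMap_apply g' W w hwW] at hu1
      have hu2 := (isUnit_map_iff (g'.stalkMap w).hom _).1 hu1
      rw [germ_resR' (inf_le_left : W ≤ f ⁻¹ᵁ V₀) hwW, ← Scheme.Hom.germ_stalkMap_apply f V₀ (g' w) (hall w)] at hu2
      have hu3 := (isUnit_map_iff (f.stalkMap (g' w)).hom _).1 hu2
      rw [← S.mem_basicOpen _ _ (hall w), show f (g' w) = s from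
        (congrArg (fun φ : f.fiber s ⟶ S => φ w) (f.fiber_fac s)).trans (S.fromSpecResidueField_apply s _)] at hu3
      exact hu ((S.mem_basicOpen _ s hs).1 hu3)
    haveI := fibre_isProper f s
    haveI := fibre_isIntegral f s
    have hone : ∀ w : f.fiber s, g' w = P s := by
      intro w
      have h1 := hsupp w
      rw [Scheme.IdealSheafData.support_comap] at h1
      have h1 : g' w ∈ (P.ker.support : Set E) := h1
      rw [Scheme.Hom.support_ker] at h1
      have h1 : g' w ∈ closure (Set.range P) := h1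
      rw [P.isClosedEmbedding.isClosed_range.closure_eq] at h1
      obtain ⟨z, hz⟩ := h1
      have h2 : f (P z) = z := congrArg (fun φ : S ⟶ S => φ z) hP
      have h3 : f (g' w) = g (f' w) := congrArg (fun φ : f.fiber s ⟶ S => φ w) (f.fiber_fac s)
      rw [hz, h3, S.fromSpecResidueField_apply] at h2
      exact hz.symm.trans (congrArg P h2.symm)
    haveI : Subsingleton (f.fiber s) := ⟨fun w w' => (f.fiberι s).isEmbedding.injective ((hone w).trans (hone w').symm)⟩
    have h4 := topologicalKrullDim_zero_of_discreteTopology (f.fiber s)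
    rw [fibre_dim f s] at h4
    exact not_le.2 zero_lt_one h4
  have hjc : ((Scheme.Modules.pullback f).map a).app (f ⁻¹ᵁ V₀) (pullElt f m) = f.app V₀ t • pullElt f n :=
    map_pullElt_smul f a ht
  obtain ⟨W, hxW, hW⟩ : ∃ (W : E.Opens), x ∈ W ∧ W ≤ f ⁻¹ᵁ V₀ ⊓ U :=
    ⟨f ⁻¹ᵁ V₀ ⊓ U, show x ∈ f ⁻¹ᵁ V₀ ⊓ U from ⟨hV₀, hx⟩, le_rfl⟩
  have h1 := hj x W hxW (AModX.res _ (hW.trans inf_le_left) (pullElt f m)) (AModX.res N (hW.trans inf_le_right) b')
  obtain ⟨d, hd⟩ := (hb'.res (hW.trans inf_le_right)).exists_coord le_rfl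
    ((ev f N).app W (AModX.res _ (hW.trans inf_le_left) (pullElt f n)))
  rw [AModX.res_self] at hd
  have h2 := h1 (AModX.resR (hW.trans inf_le_left) (f.app V₀ t) * d) ((isFrame_pullElt f hm).res _) (hb'.res _) (by
    rw [← hja]
    show (ev f N).app W (((Scheme.Modules.pullback f).map a).app W (AModX.res _ _ (pullElt f m))) = _
    rw [AModX.app_res, hjc, AModX.res_smul, Scheme.Modules.Hom.app_smul, hd, mul_smul])
  rw [h2]
  refine Eq.trans ?_ (span_germ_eq (ev f N) hxW hx ((isFrame_pullElt f hn).res (hW.trans inf_le_left))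
    (hb'.res (hW.trans inf_le_right)) hd hm' hb' hc')
  rw [map_mul]
  refine Ideal.span_singleton_mul_left_unit ?_ _
  rw [germ_resR' (hW.trans inf_le_left) hxW, ← Scheme.Hom.germ_stalkMap_apply f V₀ x (hW hxW).1]
  exact (ht1 (f x) _).map _

end Groth.Agent.GenusOneX
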