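import Groth.Agent.GenusOneX.Sections
import Groth.Agent.CurveBC.Coh
import Groth.Agent.LineDesc.RelPic
import Mathlib.CategoryTheory.Monoidal.Cartesian.Grp

/-!
# The group law on a family of curves of genus one
-/

set_option autoImplicit false
set_option maxHeartbeats 1600000
set_option linter.style.haveILetI false
set_option linter.unusedSectionVars false
set_option backward.isDefEq.respectTransparency false
set_option backward.isDefEq.respectTransparency.types false

universe u

open CategoryTheory CategoryTheory.Limits AlgebraicGeometry TopologicalSpace Opposite MonObj MonoidalCategory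
  CartesianMonoidalCategory

noncomputable section

namespace Groth.Agent.GenusOneX

open Groth.Agent Groth.Agent.H23 Groth.Agent.H23.PicMul
open scoped Groth.Agent.H23.PicMul

attribute [local instance] fibreOver

theorem deg_pullback_structure {X T : Scheme.{u}} (q : X ⟶ T) [IsProper q] [SmoothOfRelativeDimension 1 q]
    [GeometricallyConnected q] (t : T) :
    Curv2.deg (T.residueField t) (q.fiber t) ((Scheme.Modules.pullback (q.fiberι t)).obj (Coh.structureModule X)) 1 = 0 := by
  haveI := fibre_isProper q t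
  haveI := fibre_isIntegral q t
  obtain ⟨e⟩ := PicClLib.nonempty_pullback_structureModule (q.fiberι t)
  rw [CurveRR.deg_congr (T.residueField t) e 1, CurveDeg.deg_structureModule]

theorem mul_identity {G : Type*} [CommGroup G] (s p q r : G) :
    (s * p⁻¹ * (s * q⁻¹))⁻¹ * (s * r⁻¹) = (r * s)⁻¹ * (p * q) := by
  have h : ∀ {A : Type _} [AddCommGroup A] (s p q r : A), -(s + -p + (s + -q)) + (s + -r) = -(r + s) + (p + q) := by
    intros; abel
  exact h (A := Additive G) (Additive.ofMul s) (Additive.ofMul p) (Additive.ofMul q) (Additive.ofMul r)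

section BaseChange

variable {E S E' S' : Scheme.{u}} {f : E ⟶ S} {q : E' ⟶ S'} {g : S' ⟶ S} {h : E' ⟶ E}

/-- The ideal of a section, pulled back. -/
theorem comap_ker_section (hsq : IsPullback h q f g) [IsSeparated f] {P : S ⟶ E} (hP : P ≫ f = 𝟙 S)
    {p : S' ⟶ E'} (hp : p ≫ q = 𝟙 S') (hpP : p ≫ h = g ≫ P) : P.ker.comap h = p.ker := by
  haveI : IsClosedImmersion P := by
    haveI : IsClosedImmersion (P ≫ f) := by rw [hP]; infer_instance
    exact IsClosedImmersion.of_comp P f
  have hb : IsPullback g p P h := by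
    refine IsPullback.of_bot (v₂₁ := q) (h₃₁ := g) ?_ hpP.symm hsq.flip.flip
    rw [hp, hP]
    exact IsPullback.of_id_snd
  rw [← Scheme.IdealSheafData.ker_fst_of_isClosedImmersion, ← hb.flip.isoPullback_hom_fst, Scheme.Hom.ker_comp_of_isIso]

/-- The genus condition is stable under base change. -/
theorem euler_baseChange (hsq : IsPullback h q f g) [IsProper f]
    (hg : ∀ s : S, FGA.eulerCharLE (S.residueField s) (f.fiber s) (Coh.structureModule (f.fiber s)) 1 = 0) (t : S') :
    FGA.eulerCharLE (S'.residueField t) (q.fiber t) (Coh.structureModule (q.fiber t)) 1 = 0 := by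
  let α : S.residueField (g t) ⟶ S'.residueField t := g.residueFieldMap t
  have hα : Spec.map α ≫ S.fromSpecResidueField (g t) = S'.fromSpecResidueField t ≫ g :=
    g.SpecMap_residueFieldMap_fromSpecResidueField t
  letI : Algebra (S.residueField (g t)) (S'.residueField t) := α.hom.toAlgebra
  have sq : IsPullback (q.fiberι t ≫ h) (q.fiberToSpecResidueField t) f (Spec.map α ≫ S.fromSpecResidueField (g t)) := by
    rw [hα]
    exact (IsPullback.of_hasPullback q (S'.fromSpecResidueField t)).paste_horiz hsq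
  let m : q.fiber t ⟶ f.fiber (g t) :=
    pullback.lift (q.fiberι t ≫ h) (q.fiberToSpecResidueField t ≫ Spec.map α) (by rw [sq.w, Category.assoc])
  have hpb : IsPullback m (q.fiber t ↘ Spec (CommRingCat.of (S'.residueField t)))
      (f.fiber (g t) ↘ Spec (CommRingCat.of (S.residueField (g t))))
      (Spec.map (CommRingCat.ofHom (algebraMap (S.residueField (g t)) (S'.residueField t)))) := by
    refine IsPullback.of_right ?_ (pullback.lift_snd _ _ _) (IsPullback.of_hasPullback f _)
    rw [show m ≫ pullback.fst f (S.fromSpecResidueField (g t)) = q.fiberι t ≫ h from pullback.lift_fst _ _ _]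
    exact sq
  haveI : IsProper (f.fiber (g t) ↘ Spec (CommRingCat.of (S.residueField (g t)))) :=
    inferInstanceAs (IsProper (pullback.snd f (S.fromSpecResidueField (g t))))
  haveI : IsNoetherian (f.fiber (g t)) :=
    CurveCohLib.isNoetherian_of_proper (k := S.residueField (g t)) (X := f.fiber (g t))
  rw [← hg (g t)]
  exact Finset.sum_congr rfl fun i _ => congrArg (fun z : ℕ => (-1 : ℤ) ^ i * (z : ℤ))
    (CurveBC.finrank_hh_unit (S.residueField (g t)) (S'.residueField t) m hpb i)

end BaseChange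

variable {E S : Scheme.{u}} (f : E ⟶ S) [IsProper f] [SmoothOfRelativeDimension 1 f] [GeometricallyConnected f]
  (hg : ∀ s : S, FGA.eulerCharLE (S.residueField s) (f.fiber s) (Coh.structureModule (f.fiber s)) 1 = 0)
  (σ : S ⟶ E) (hσ : σ ≫ f = 𝟙 S)

instance isProper_XTproj (T : Over S) : IsProper (PicF.XTproj f T) :=
  inferInstanceAs (IsProper (pullback.snd f T.hom))

instance smooth_XTproj (T : Over S) : SmoothOfRelativeDimension 1 (PicF.XTproj f T) :=
  haveI := smoothOfRelativeDimension_isStableUnderBaseChange 1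
  MorphismProperty.pullback_snd (P := @SmoothOfRelativeDimension 1) f T.hom inferInstance

instance geomConn_XTproj (T : Over S) : GeometricallyConnected (PicF.XTproj f T) :=
  inferInstanceAs (GeometricallyConnected (pullback.snd f T.hom))

include hg in
theorem hg_XT (T : Over S) (t : T.left) :
    FGA.eulerCharLE (T.left.residueField t) ((PicF.XTproj f T).fiber t) (Coh.structureModule _) 1 = 0 :=
  euler_baseChange (IsPullback.of_hasPullback f T.hom) hg t

/-- The section of a point. -/
abbrev sct {T : Over S} (P : T ⟶ Over.mk f) : T.left ⟶ PicF.XT f T :=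
  pullback.lift P.left (𝟙 T.left) ((Over.w P).trans (Category.id_comp T.hom).symm)

omit [IsProper f] [SmoothOfRelativeDimension 1 f] [GeometricallyConnected f] in
theorem sct_proj {T : Over S} (P : T ⟶ Over.mk f) : sct f P ≫ PicF.XTproj f T = 𝟙 _ := pullback.lift_snd _ _ _

/-- The point given by the chosen section. -/
abbrev pt (T : Over S) : T ⟶ Over.mk f :=
  Over.homMk (T.hom ≫ σ) (show (T.hom ≫ σ) ≫ f = T.hom by rw [Category.assoc, hσ, Category.comp_id])

omit [IsProper f] [SmoothOfRelativeDimension 1 f] [GeometricallyConnected f] in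
theorem sct_pt (T : Over S) : sct f (pt f σ hσ T) = PicF.secT f σ hσ T := rfl

/-- The class of the ideal of a point. -/
def idCl {T : Over S} (P : T ⟶ Over.mk f) : (PicF.Cl (PicF.XT f T))ˣ :=
  (isUnit_cl (isInvertible_ker (PicF.XTproj f T) (sct_proj f P))).unit

theorem idCl_val {T : Over S} (P : T ⟶ Over.mk f) :
    (idCl f P : PicF.Cl (PicF.XT f T)) = PicF.cl (ClSub.idealMod (sct f P).ker) := IsUnit.unit_spec _

/-- Classes coming from the base. -/
def base (T : Over S) : Subgroup (PicF.Cl (PicF.XT f T))ˣ where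
  carrier := {u | ∃ M : T.left.Modules, PicF.IsInvertible M ∧
    PicF.cl ((Scheme.Modules.pullback (PicF.XTproj f T)).obj M) = u.val}
  one_mem' := ⟨_, InvX.isInvertible_structureModule, pullCl_one (PicF.XTproj f T)⟩
  mul_mem' := by
    rintro u v ⟨M, hM, hu⟩ ⟨M', hM', hv⟩
    refine ⟨_, InvX.isInvertible_tensorMod hM hM', ?_⟩
    rw [Units.val_mul, ← hu, ← hv]
    exact pullCl_mul (PicF.XTproj f T) (PicF.cl M) (PicF.cl M')
  inv_mem' := by
    rintro u ⟨M, hM, hu⟩
    obtain ⟨D, hD, e⟩ := PicInv.exists_inverse hM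
    refine ⟨D, hD, ?_⟩
    have h1 : PicF.cl M * PicF.cl D = 1 := cl_eq_iff.2 e
    have h2 : u.val * PicF.cl ((Scheme.Modules.pullback (PicF.XTproj f T)).obj D) = 1 := by
      rw [← hu]
      exact (pullCl_mul (PicF.XTproj f T) (PicF.cl M) (PicF.cl D)).symm.trans (by rw [h1, pullCl_one])
    exact (Units.inv_eq_of_mul_eq_one_right h2).symm

/-- Classes of degree zero on each fibre. -/
def degZero (T : Over S) : Subgroup (PicF.Cl (PicF.XT f T))ˣ where
  carrier := {u | ∃ N : (PicF.XT f T).Modules, PicF.IsInvertible N ∧ PicF.cl N = u.val ∧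
    ∀ t, Curv2.deg (T.left.residueField t) ((PicF.XTproj f T).fiber t)
      ((Scheme.Modules.pullback ((PicF.XTproj f T).fiberι t)).obj N) 1 = 0}
  one_mem' := ⟨_, InvX.isInvertible_structureModule, rfl, deg_pullback_structure (PicF.XTproj f T)⟩
  mul_mem' := by
    rintro u v ⟨N, hN, hu, hN0⟩ ⟨N', hN', hv, hN0'⟩
    refine ⟨_, InvX.isInvertible_tensorMod hN hN', by rw [Units.val_mul, ← hu, ← hv]; rfl, fun t => ?_⟩
    rw [deg_mul (PicF.XTproj f T) t hN hN' rfl, hN0, hN0', add_zero]
  inv_mem' := by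
    rintro u ⟨N, hN, hu, hN0⟩
    obtain ⟨D, hD, e⟩ := PicInv.exists_inverse hN
    have h1 : PicF.cl N * PicF.cl D = PicF.cl (Coh.structureModule _) := cl_eq_iff.2 e
    refine ⟨D, hD, (Units.inv_eq_of_mul_eq_one_right (by rw [← hu]; exact h1)).symm, fun t => ?_⟩
    have h2 := deg_mul (PicF.XTproj f T) t hN hD h1
    rw [deg_pullback_structure, hN0, zero_add] at h2
    exact h2.symm

/-- Classes of degree zero modulo the base. -/
abbrev picZero (T : Over S) : Subgroup ((PicF.Cl (PicF.XT f T))ˣ ⧸ base f T) :=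
  (degZero f T).map (QuotientGroup.mk' (base f T))

/-- `P ↦ O(P - σ)`. -/
def diffCl {T : Over S} (P : T ⟶ Over.mk f) : (PicF.Cl (PicF.XT f T))ˣ :=
  idCl f (pt f σ hσ T) * (idCl f P)⁻¹

theorem diffCl_mem {T : Over S} (P : T ⟶ Over.mk f) : diffCl f σ hσ P ∈ degZero f T := by
  obtain ⟨D, hD, e⟩ := PicInv.exists_inverse (isInvertible_ker (PicF.XTproj f T) (sct_proj f P))
  have h1 : PicF.cl (ClSub.idealMod (sct f P).ker) * PicF.cl D = PicF.cl (Coh.structureModule _) := cl_eq_iff.2 e
  have hi := isInvertible_ker (PicF.XTproj f T) (sct_proj f (pt f σ hσ T))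
  refine ⟨_, InvX.isInvertible_tensorMod hi hD, ?_, fun t => ?_⟩
  · rw [diffCl, Units.val_mul, idCl_val, cl_tensor]
    exact congrArg _ (Units.inv_eq_of_mul_eq_one_right (by rw [idCl_val]; exact h1)).symm
  · haveI := fibre_isProper (PicF.XTproj f T) t
    have h2 := deg_mul (PicF.XTproj f T) t (isInvertible_ker (PicF.XTproj f T) (sct_proj f P)) hD h1
    rw [deg_pullback_structure,
      deg_ker (PicF.XTproj f T) (sct_proj f P) t] at h2
    rw [deg_mul (PicF.XTproj f T) t hi hD rfl, deg_ker (PicF.XTproj f T) (sct_proj f _) t]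
    exact h2.symm

/-- A point as a class of degree zero. -/
def toPic (T : Over S) (P : T ⟶ Over.mk f) : picZero f T :=
  ⟨QuotientGroup.mk (diffCl f σ hσ P), diffCl f σ hσ P, diffCl_mem f σ hσ P, rfl⟩

include hg in
theorem bijective_toPic (T : Over S) : Function.Bijective (toPic f σ hσ T) := by
  constructor
  · intro P Q h
    have h1 : (diffCl f σ hσ P)⁻¹ * diffCl f σ hσ Q ∈ base f T := QuotientGroup.eq.1 (congrArg Subtype.val h)
    rw [show (diffCl f σ hσ P)⁻¹ * diffCl f σ hσ Q = idCl f P * (idCl f Q)⁻¹ by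
      simp only [diffCl, mul_inv_rev, inv_inv]; group] at h1
    obtain ⟨D, hD, e⟩ := PicInv.exists_inverse (isInvertible_ker (PicF.XTproj f T) (sct_proj f Q))
    have h2 : PicF.cl (ClSub.idealMod (sct f Q).ker) * PicF.cl D = 1 := cl_eq_iff.2 e
    have hdeg : IsDegOne (PicF.XTproj f T) D := ⟨hD, fun t => by
      have h3 := deg_mul (PicF.XTproj f T) t (isInvertible_ker (PicF.XTproj f T) (sct_proj f Q)) hD h2
      rw [deg_ker (PicF.XTproj f T) (sct_proj f Q) t, deg_pullback_structure] at h3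
      omega⟩
    obtain ⟨R, -, hR⟩ := existsUnique_section (PicF.XTproj f T) (hg_XT f hg T) hdeg
    obtain ⟨M, hM, hMv⟩ := h1
    rw [Units.val_mul, idCl_val, Units.inv_eq_of_mul_eq_one_right (by rw [idCl_val]; exact h2)] at hMv
    have h4 : sct f P = sct f Q := (hR _ ⟨sct_proj f P, M, hM, hMv.symm⟩).trans
      (hR _ ⟨sct_proj f Q, _, InvX.isInvertible_structureModule, h2.trans (pullCl_one (PicF.XTproj f T)).symm⟩).symm
    refine Over.OverMorphism.ext ?_
    have h5 := congrArg (· ≫ pullback.fst f T.hom) h4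
    simpa [sct] using h5
  · rintro ⟨x, w, ⟨N, hN, hNw, hN0⟩, rfl⟩
    have hi := isInvertible_ker (PicF.XTproj f T) (sct_proj f (pt f σ hσ T))
    obtain ⟨D, hD, e⟩ := PicInv.exists_inverse hi
    have h2 : PicF.cl (ClSub.idealMod (sct f (pt f σ hσ T)).ker) * PicF.cl D = 1 := cl_eq_iff.2 e
    have hdeg : IsDegOne (PicF.XTproj f T) (CohB1.tensorMod N D) := ⟨InvX.isInvertible_tensorMod hN hD, fun t => by
      have h3 := deg_mul (PicF.XTproj f T) t hi hD h2
      rw [deg_ker (PicF.XTproj f T) (sct_proj f _) t, deg_pullback_structure] at h3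
      rw [deg_mul (PicF.XTproj f T) t hN hD rfl, hN0]
      omega⟩
    obtain ⟨R, ⟨hR, M, hM, hRM⟩, -⟩ := existsUnique_section (PicF.XTproj f T) (hg_XT f hg T) hdeg
    let P : T ⟶ Over.mk f := Over.homMk (R ≫ pullback.fst f T.hom)
      (show (R ≫ pullback.fst f T.hom) ≫ f = T.hom by
        rw [Category.assoc, pullback.condition, ← Category.assoc]
        exact (congrArg (· ≫ T.hom) hR).trans (Category.id_comp _))
    have hsP : sct f P = R := pullback.hom_ext (by simp [sct, P]) (by rw [pullback.lift_snd]; exact hR.symm)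
    refine ⟨P, Subtype.ext (QuotientGroup.eq.2 ⟨M, hM, ?_⟩)⟩
    rw [← hRM, cl_tensor, hNw]
    rw [show (diffCl f σ hσ P)⁻¹ * w = idCl f P * ((idCl f (pt f σ hσ T))⁻¹ * w) by
      simp only [diffCl, mul_inv_rev, inv_inv]; group]
    rw [Units.val_mul, Units.val_mul, idCl_val, hsP, Units.inv_eq_of_mul_eq_one_right (by rw [idCl_val]; exact h2),
      mul_comm w.val]

/-- Points are classes of degree zero. -/
def picEquiv (T : Over S) : (T ⟶ Over.mk f) ≃ picZero f T :=
  Equiv.ofBijective _ (bijective_toPic f hg σ hσ T)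

omit [IsProper f] [SmoothOfRelativeDimension 1 f] [GeometricallyConnected f] in
theorem sct_comp {T T' : Over S} (g : T' ⟶ T) (P : T ⟶ Over.mk f) :
    sct f (g ≫ P) ≫ PicF.XTmap f g = g.left ≫ sct f P :=
  pullback.hom_ext (by simp [sct, PicF.XTmap])
    (by simp [sct, PicF.XTmap]; exact Category.id_comp _)

theorem map_idCl {T T' : Over S} (g : T' ⟶ T) (P : T ⟶ Over.mk f) :
    Units.map (pullHom (PicF.XTmap f g)) (idCl f P) = idCl f (g ≫ P) := by
  refine Units.ext ?_
  rw [Units.coe_map, idCl_val, idCl_val]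
  have hc := comap_ker_section (LineDesc.Rig.isPullback_XTmap g) (sct_proj f P) (sct_proj f (g ≫ P)) (sct_comp f g P)
  have hi := isInvertible_ker (PicF.XTproj f T) (sct_proj f P)
  have hi' := isInvertible_ker (PicF.XTproj f T') (sct_proj f (g ≫ P))
  obtain ⟨e⟩ := CurveAlgEqLib.nonempty_pullback_idealMod (PicF.XTmap f g) hi (J := (sct f P).ker) (hc ▸ hi')
  exact cl_eq_iff.2 ⟨e ≪≫ eqToIso (by rw [hc])⟩

theorem comp_pt {T T' : Over S} (g : T' ⟶ T) : g ≫ pt f σ hσ T = pt f σ hσ T' := by
  refine Over.OverMorphism.ext ?_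
  show g.left ≫ T.hom ≫ σ = T'.hom ≫ σ
  rw [← Category.assoc, Over.w g]

omit [IsProper f] [SmoothOfRelativeDimension 1 f] [GeometricallyConnected f] in
theorem base_le_comap {T T' : Over S} (g : T' ⟶ T) :
    base f T ≤ (base f T').comap (Units.map (pullHom (PicF.XTmap f g))) := by
  rintro u ⟨M, hM, hu⟩
  refine ⟨_, PicClLib.isInvertible_pullback g.left hM, ?_⟩
  rw [Units.coe_map, ← hu]
  show PicF.pullCl _ (PicF.pullCl g.left (PicF.cl M)) = PicF.pullCl _ (PicF.pullCl (PicF.XTproj f T) (PicF.cl M))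
  rw [PicClLib.pullCl_comp, PicClLib.pullCl_comp, (LineDesc.Rig.isPullback_XTmap (f := f) g).w]

/-- Pullback of classes modulo the base. -/
def pullQuot {T T' : Over S} (g : T' ⟶ T) :
    (PicF.Cl (PicF.XT f T))ˣ ⧸ base f T →* (PicF.Cl (PicF.XT f T'))ˣ ⧸ base f T' :=
  QuotientGroup.map _ _ (Units.map (pullHom (PicF.XTmap f g))) (base_le_comap f g)

theorem toPic_comp {T T' : Over S} (g : T' ⟶ T) (P : T ⟶ Over.mk f) :
    (toPic f σ hσ T' (g ≫ P)).1 = pullQuot f g (toPic f σ hσ T P).1 := by
  show QuotientGroup.mk _ = QuotientGroup.mk (Units.map _ (diffCl f σ hσ P))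
  rw [diffCl, diffCl, map_mul, map_inv, map_idCl, map_idCl, comp_pt]

/-- The group of points. -/
abbrev grp (T : Over S) : CommGroup (T ⟶ Over.mk f) := (picEquiv f hg σ hσ T).commGroup

theorem toPic_mul (T : Over S) (P Q : T ⟶ Over.mk f) :
    (toPic f σ hσ T ((grp f hg σ hσ T).mul P Q)).1 = (toPic f σ hσ T P).1 * (toPic f σ hσ T Q).1 :=
  congrArg Subtype.val ((picEquiv f hg σ hσ T).apply_symm_apply _)

theorem comp_mul {T T' : Over S} (g : T' ⟶ T) (P Q : T ⟶ Over.mk f) :
    g ≫ (grp f hg σ hσ T).mul P Q = (grp f hg σ hσ T').mul (g ≫ P) (g ≫ Q) := by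
  refine (bijective_toPic f hg σ hσ T').1 (Subtype.ext ?_)
  rw [toPic_comp, toPic_mul, toPic_mul, map_mul, toPic_comp, toPic_comp]

/-- The functor of points, with its group law. -/
def pointsFunctor : (Over S)ᵒᵖ ⥤ GrpCat.{u} where
  obj T := @GrpCat.of (unop T ⟶ Over.mk f) (grp f hg σ hσ (unop T)).toGroup
  map {T T'} φ :=
    letI := grp f hg σ hσ (unop T)
    letI := grp f hg σ hσ (unop T')
    GrpCat.ofHom (MonoidHom.mk' (fun P : unop T ⟶ Over.mk f => φ.unop ≫ P) (comp_mul f hg σ hσ φ.unop))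
  map_id T := GrpCat.hom_ext (DFunLike.ext _ _ fun P => Category.id_comp (show unop T ⟶ Over.mk f from P))
  map_comp {X _ _} φ ψ := GrpCat.hom_ext (DFunLike.ext _ _ fun P => Category.assoc ψ.unop φ.unop (show unop X ⟶ Over.mk f from P))

/-- It is represented by the family. -/
def pointsRep : (pointsFunctor f hg σ hσ ⋙ forget _).RepresentableBy (Over.mk f) where
  homEquiv := Equiv.refl _
  homEquiv_comp _ _ := rfl

/-- The group scheme. -/
@[reducible] def grpObj : GrpObj (Over.mk f) := GrpObj.ofRepresentableBy _ _ (pointsRep f hg σ hσ)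

theorem mul_eq (T : Over S) (P Q : T ⟶ Over.mk f) :
    letI := grpObj f hg σ hσ
    P * Q = (grp f hg σ hσ T).mul P Q := by
  letI := grpObj f hg σ hσ
  show lift P Q ≫ (grp f hg σ hσ _).mul (fst _ _) (snd _ _) = _
  rw [comp_mul, lift_fst, lift_snd]

theorem mul_eq_iff (T : Over S) (P Q R : T ⟶ Over.mk f) :
    letI := grpObj f hg σ hσ
    P * Q = R ↔ ∃ M : T.left.Modules, PicF.IsInvertible M ∧
      Nonempty (CohB1.tensorMod (ClSub.idealMod (sct f P).ker) (ClSub.idealMod (sct f Q).ker) ≅
        CohB1.tensorMod (CohB1.tensorMod (ClSub.idealMod (sct f R).ker) (ClSub.idealMod (PicF.secT f σ hσ T).ker))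
          ((Scheme.Modules.pullback (PicF.XTproj f T)).obj M)) := by
  letI := grpObj f hg σ hσ
  rw [mul_eq, ← (bijective_toPic f hg σ hσ T).1.eq_iff, Subtype.ext_iff, toPic_mul]
  show (QuotientGroup.mk (diffCl f σ hσ P * diffCl f σ hσ Q) : (PicF.Cl (PicF.XT f T))ˣ ⧸ base f T) =
    QuotientGroup.mk (diffCl f σ hσ R) ↔ _
  rw [QuotientGroup.eq]
  refine exists_congr fun M => and_congr_right fun hM => ?_
  rw [← cl_eq_iff, cl_tensor, cl_tensor, cl_tensor, ← sct_pt f σ hσ T, ← idCl_val, ← idCl_val, ← idCl_val, ← idCl_val]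
  have hU := isUnit_cl (PicClLib.isInvertible_pullback (PicF.XTproj f T) hM)
  rw [← hU.unit_spec, ← Units.val_mul, ← Units.val_mul, ← Units.val_mul, Units.val_inj, Units.val_inj,
    eq_comm (a := idCl f P * idCl f Q)]
  rw [show (diffCl f σ hσ P * diffCl f σ hσ Q)⁻¹ * diffCl f σ hσ R =
      (idCl f R * idCl f (pt f σ hσ T))⁻¹ * (idCl f P * idCl f Q) from mul_identity _ _ _ _]
  exact eq_inv_mul_iff_mul_eq

theorem mul_comm' (T : Over S) (P Q : T ⟶ Over.mk f) :
    letI := grpObj f hg σ hσ
    P * Q = Q * P := by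
  letI := grpObj f hg σ hσ
  rw [mul_eq, mul_eq]
  exact (grp f hg σ hσ T).mul_comm P Q

theorem one_eq (T : Over S) :
    letI := grpObj f hg σ hσ
    (1 : T ⟶ Over.mk f) = pt f σ hσ T := by
  letI := grpObj f hg σ hσ
  have h : pt f σ hσ T * pt f σ hσ T = pt f σ hσ T := (mul_eq_iff f hg σ hσ T _ _ _).2
    ⟨_, InvX.isInvertible_structureModule, cl_eq_iff.1 (by
      rw [← sct_pt f σ hσ T, cl_tensor, cl_tensor, cl_tensor]
      exact ((congrArg (_ * ·) (pullCl_one (PicF.XTproj f T))).trans (mul_one _)).symm)⟩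
  exact (mul_eq_left.1 h).symm

end Groth.Agent.GenusOneX
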