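import Groth.Agent.GenusOneX.Group
import Groth.Agent.CurveEmbed.DegOne
import Groth.Agent.P1Split.Basic
import Groth.Agent.CurveCohLib.Skyscraper
import Groth.Agent.LineDesc.RelPic
import Groth.Prelude.Def_AbDual

/-!
# Sections of a family of curves of positive genus and their classes
-/

set_option autoImplicit false
set_option maxHeartbeats 1600000
set_option linter.style.haveILetI false
set_option linter.unusedSectionVars false
set_option backward.isDefEq.respectTransparency false
set_option backward.isDefEq.respectTransparency.types false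

universe u

open CategoryTheory CategoryTheory.Limits AlgebraicGeometry TopologicalSpace Opposite

namespace Groth.Agent.GenusOneX

open Groth.Agent Groth.Agent.H23 Groth.Agent.H23.PicMul InvX ZeroMapX
open scoped Groth.Agent.H23.PicMul

attribute [local instance] fibreOver

theorem exchAt_zero_of_surjective {X S : Scheme.{u}} {f : X ⟶ S} [IsProper f] [LocallyOfFinitePresentation f]
    {F : X.Modules} (hF : Coh.IsQCoh F) (hfp : CohB1.IsFP F) (hfl : FlatMod.IsFlatOver f F) {s : S}
    (h : Function.Surjective ((CohBC.bc0 f (S.fromSpecResidueField s) (f.fiberToSpecResidueField s) (f.fiberι s)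
      (f.fiber_fac s) F).app ⊤)) : CohPullLib.ExchAt f F 0 s := by
  obtain ⟨V, hV, P, hs, -, hP⟩ := CohPullLib.exists_isModel_nhd (f := f) hF hfp hfl (show s ∈ (⊤ : S.Opens) from trivial)
  have hsq : IsPullback (f.fiberι s) (f.fiberToSpecResidueField s) f (S.fromSpecResidueField s) :=
    IsPullback.of_hasPullback _ _
  haveI : QuasiCompact (f.fiberToSpecResidueField s) := MorphismProperty.of_isPullback hsq inferInstance
  haveI : QuasiSeparated (f.fiberToSpecResidueField s) := MorphismProperty.of_isPullback hsq inferInstance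
  letI : (f ⁻¹ᵁ V).toScheme.Over (Spec (CommRingCat.of Γ(S, V))) := ⟨CohPullLib.secπ f hV le_rfl⟩
  obtain ⟨e⟩ := hP.2.2.2.2 0
  obtain ⟨a, b, hab⟩ := CohPullLib.exists_bc0_app_comparison hsq hF hV (isAffineOpen_top _)
    (CohPullLib.top_le_preimage_residue hs) _ e
  refine CohPullLib.exists_exchAt_of_surjective hF hP 0 hs fun y => ?_
  obtain ⟨z, hz⟩ := h (b y)
  exact ⟨a z, b.injective ((hab z).symm.trans hz)⟩

variable {E S : Scheme.{u}} (f : E ⟶ S) [IsProper f] [SmoothOfRelativeDimension 1 f] [GeometricallyConnected f]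

/-- Positive genus on the fibres. -/
def PosGenus : Prop := ∀ s : S, 1 ≤ Curv2.genus (S.residueField s) (f.fiber s)

theorem posGenus_baseChange {E' S' : Scheme.{u}} {q : E' ⟶ S'} {g : S' ⟶ S} {h : E' ⟶ E}
    (hsq : IsPullback h q f g) (hpos : PosGenus f) : PosGenus q := fun t => by
  let α : S.residueField (g t) ⟶ S'.residueField t := g.residueFieldMap t
  have hα : Spec.map α ≫ S.fromSpecResidueField (g t) = S'.fromSpecResidueField t ≫ g :=
    g.SpecMap_residueFieldMap_fromSpecResidueField t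
  letI : Algebra (S.residueField (g t)) (S'.residueField t) := α.hom.toAlgebra
  have sq : IsPullback (q.fiberι t ≫ h) (q.fiberToSpecResidueField t) f (Spec.map α ≫ S.fromSpecResidueField (g t)) := by
    rw [hα]
    exact (IsPullback.of_hasPullback q (S'.fromSpecResidueField t)).paste_horiz hsq
  let m : q.fiber t ⟶ f.fiber (g t) :=
    pullback.lift (q.fiberι t ≫ h) (q.fiberToSpecResidueField t ≫ Spec.map α) (by rw [sq.w, Category.assoc])
  have hpb : IsPullback m (q.fiber t ↘ Spec (CommRingCat.of (S'.residueField t)))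
      (f.fiber (g t) ↘ Spec (CommRingCat.of (S.residueField (g t))))
      (Spec.map (CommRingCat.ofHom (algebraMap (S.residueField (g t)) (S'.residueField t)))) := by
    refine IsPullback.of_right ?_ (pullback.lift_snd _ _ _) (IsPullback.of_hasPullback f _)
    rw [show m ≫ pullback.fst f (S.fromSpecResidueField (g t)) = q.fiberι t ≫ h from pullback.lift_fst _ _ _]
    exact sq
  haveI := fibre_isProper f (g t)
  haveI : IsNoetherian (f.fiber (g t)) :=
    CurveCohLib.isNoetherian_of_proper (k := S.residueField (g t)) (X := f.fiber (g t))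
  rw [CurveBC.genus_eq (S.residueField (g t)) (S'.residueField t) m hpb]
  exact hpos (g t)

variable {f}

theorem h0_deg_one {k : Type u} [Field k] {X : Scheme.{u}} [X.Over (Spec (CommRingCat.of k))] [IsIntegral X]
    [IsProper (X ↘ Spec (CommRingCat.of k))] (hdim : topologicalKrullDim X = 1) (hgen : 1 ≤ Curv2.genus k X)
    {L : X.Modules} (hL : PicF.IsInvertible L) (hd : Curv2.deg k X L 1 = 1) :
    Module.finrank k (Coh.HH X L 0) ≤ 1 := by
  by_contra hlt
  obtain ⟨e, he⟩ := CurveEmbed.exists_iso_line_of_deg_one k hdim hL hd (by omega)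
  haveI := CurveCohLib.isNoetherian_of_proper (k := k) (X := CohB1.ProjSpace 1 k)
  haveI : IsIso (Spec.map (CommRingCat.ofHom (algebraMap k k))) := by
    rw [show CommRingCat.ofHom (algebraMap k k) = 𝟙 _ from rfl, Spec.map_id]
    infer_instance
  have hsq : IsPullback e.hom (X ↘ Spec (CommRingCat.of k)) (CohB1.ProjSpace 1 k ↘ Spec (CommRingCat.of k))
      (Spec.map (CommRingCat.ofHom (algebraMap k k))) :=
    IsPullback.of_horiz_isIso ⟨by
      rw [show CommRingCat.ofHom (algebraMap k k) = 𝟙 _ from rfl, Spec.map_id, Category.comp_id]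
      exact he⟩
  rw [CurveBC.genus_eq k k e.hom hsq, P1Split.genus_eq] at hgen
  omega

theorem exists_ne_zero_h0 {k : Type u} [Field k] {X : Scheme.{u}} [X.Over (Spec (CommRingCat.of k))] (G : X.Modules)
    (v : Γ(G, ⊤)) (hv : v ≠ 0) :
    ∃ t : Coh.HH X G 0, t ≠ 0 ∧ (show Γ(G, ⊤) from Sheaf.H.equiv₀ (Coh.toAb G) isTerminalTop t) = v := by
  refine ⟨(Sheaf.H.equiv₀ (Coh.toAb G) isTerminalTop).symm v, fun h => hv ?_, AddEquiv.apply_symm_apply _ v⟩
  have h2 := congrArg (Sheaf.H.equiv₀ (Coh.toAb G) isTerminalTop) h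
  rw [AddEquiv.apply_symm_apply, map_zero] at h2
  exact h2

theorem exists_scalar_of_rank_one {k : Type u} [Field k] {X : Scheme.{u}} [X.Over (Spec (CommRingCat.of k))]
    (G : X.Modules) (v : Γ(G, ⊤)) (hv : v ≠ 0) (h1 : Module.finrank k (Coh.HH X G 0) = 1) (y : Γ(G, ⊤)) :
    ∃ c : k, (X ↘ Spec (CommRingCat.of k)).appTop ((Scheme.ΓSpecIso (CommRingCat.of k)).inv c) • v = y := by
  obtain ⟨t, ht, htv⟩ := exists_ne_zero_h0 (k := k) G v hv
  obtain ⟨c, hc⟩ := (finrank_eq_one_iff_of_nonzero' t ht).1 h1 ((Sheaf.H.equiv₀ (Coh.toAb G) isTerminalTop).symm y)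
  have h2 := congrArg (Sheaf.H.equiv₀ (Coh.toAb G) isTerminalTop) hc
  rw [AddEquiv.apply_symm_apply] at h2
  refine ⟨c, Eq.trans ?_ ((CurveCohLib.h0Equiv_smul (k := k) (X := X) G c t).symm.trans h2)⟩
  rw [htv]
  exact congrArg (· • v) (ConcreteCategory.congr_hom (X.presheaf.map_id _) _).symm

/-- `O(P)` has one section, universally. -/
theorem hasOneSection_dual (hpos : PosGenus f) {P : S ⟶ E} (hP : P ≫ f = 𝟙 S) {N : E.Modules}
    (hN : PicF.IsInvertible N) (e : CohB1.tensorMod (ClSub.idealMod P.ker) N ≅ Coh.structureModule E) :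
    HasOneSection f N := by
  have hI := isInvertible_ker f hP
  have hO := InvX.isInvertible_structureModule (X := E)
  obtain ⟨c₀⟩ := PicMul.comm (Coh.structureModule E) N
  let lam : (AmpleVan.tw N).obj (Coh.structureModule E) ≅ N := c₀ ≪≫ KFlatLib.tensorUnitIso N
  let θ : Coh.structureModule E ⟶ N := e.inv ≫ (AmpleVan.tw N).map (ClSub.idealModι P.ker) ≫ lam.hom
  have hθ : IsZeroIdeal θ P.ker := (isZeroIdeal_twist P.ker hI hN).comp_iso e.symm lam
  let n : Γ(N, ⊤) := θ.app ⊤ (show Γ(Coh.structureModule E, ⊤) from (1 : Γ(E, ⊤)))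
  have hdeg : ∀ s : S, Curv2.deg (S.residueField s) (f.fiber s) ((Scheme.Modules.pullback (f.fiberι s)).obj N) 1 = 1 := by
    intro s
    have h2 := deg_mul f s hI hN (C := Coh.structureModule E) (by rw [← cl_tensor]; exact cl_eq_iff.2 ⟨e⟩)
    rw [deg_ker f hP s, deg_pullback_structure f s] at h2
    omega
  have hkey : ∀ s : S, pullElt (f.fiberι s) n ≠ 0 ∧ CohIII.fiberRank f N 0 s = 1 := by
    intro s
    haveI := fibre_isProper f s
    haveI := fibre_smooth f s
    haveI := fibre_isIntegral f s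
    haveI : Smooth (f.fiber s ↘ Spec (CommRingCat.of (S.residueField s))) := SmoothOfRelativeDimension.smooth 1 _
    haveI := CurveCohLib.isNoetherian_of_proper (k := S.residueField s) (X := f.fiber s)
    have hn : pullElt (f.fiberι s) n ≠ 0 := by
      intro hz
      obtain ⟨p, hp, hc⟩ := exists_fibre_section f hP s
      obtain ⟨hx, hker, -⟩ := CurveEmbed.section_point (S.residueField s) p hp
      have hC : BlowUp.IsEffCartierIdeal (P.ker.comap (f.fiberι s)) := by
        rw [hc, hker]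
        exact (S8914.result _).1 (CurveNondeg.isInvertible_pt (S.residueField s) (fibre_dim f s) hx)
      obtain ⟨w⟩ := (inferInstance : Nonempty (f.fiber s))
      obtain ⟨U, hw, b, hb⟩ := exists_frame (PicClLib.isInvertible_pullback (f.fiberι s) hN) w
      have h1 : IsFrame (pullElt (f.fiberι s) (show Γ(Coh.structureModule E, ⊤) from (1 : Γ(E, ⊤)))) :=
        isFrame_pullElt _ (isFrame_one ⊤)
      have h2 : ((Scheme.Modules.pullback (f.fiberι s)).map θ).app U (AModX.res _ (le_top : U ≤ ⊤) (pullElt (f.fiberι s) (show Γ(Coh.structureModule E, ⊤) from (1 : Γ(E, ⊤))))) =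
          (0 : Γ(f.fiber s, U)) • b := by
        rw [zero_smul, AModX.app_res]
        exact (congrArg _ ((ThetaLib.map_pullElt (f.fiberι s) θ (show Γ(Coh.structureModule E, ⊤) from (1 : Γ(E, ⊤)))).trans hz)).trans (map_zero _)
      have h3 := germ_coef_nzd (hθ.pullback hO hN (f.fiberι s)) hC hw (h1.res _) hb h2
      rw [map_zero] at h3
      exact zero_notMem_nonZeroDivisors h3
    refine ⟨hn, le_antisymm (h0_deg_one (fibre_dim f s) (hpos s) (PicClLib.isInvertible_pullback _ hN) (hdeg s)) ?_⟩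
    haveI := CurveCohLib.finite_HH (k := S.residueField s)
      (CurveDeg.isCoh_of_isInvertible (PicClLib.isInvertible_pullback (f.fiberι s) hN)) 0
    obtain ⟨t, ht, -⟩ := exists_ne_zero_h0 (k := S.residueField s) ((Scheme.Modules.pullback (f.fiberι s)).obj N)
      (pullElt (f.fiberι s) n) hn
    exact Module.finrank_pos_iff_exists_ne_zero.2 ⟨t, ht⟩
  haveI := lfp_of_family f
  haveI := flat_of_family f
  refine ⟨hN, hdeg, fun s => (hkey s).2, fun s => exchAt_zero_of_surjective (ProjUPX.isQCoh_of_isInvertible hN)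
    (QCoh.isFP_of_isFinLocFree fun x =>
      let ⟨U, hx, e⟩ := InvEnd.isFinLocFreeOfRank_one hN x
      ⟨U, 1, hx, e⟩)
    (haveI := flat_of_family f; H23.Seesaw.isFlatOver_of_isInvertible f hN) fun y => ?_⟩
  haveI := fibre_isProper f s
  let G := (Scheme.Modules.pullback (f.fiberι s)).obj N
  obtain ⟨c, hc⟩ := exists_scalar_of_rank_one (k := S.residueField s) G (pullElt (f.fiberι s) n) (hkey s).1 (hkey s).2 y
  refine ⟨(Scheme.ΓSpecIso (S.residueField s)).inv c •
    QCoh.pullSec (S.fromSpecResidueField s) ((Scheme.Modules.pushforward f).obj N) (V := ⊤) (W := ⊤) le_top n, ?_⟩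
  rw [Scheme.Modules.Hom.app_smul, CohPullLib.bc0_app_pullSec (f.fiber_fac s) N le_top]
  refine Eq.trans ?_ hc
  refine congrArg (_ • ·) ?_
  exact ConcreteCategory.congr_hom (G.presheaf.map_id _) _

variable (f) in
/-- Sections with the same class are equal. -/
theorem section_eq_of_cl_eq (hpos : PosGenus f) {P Q : S ⟶ E} (hP : P ≫ f = 𝟙 S) (hQ : Q ≫ f = 𝟙 S)
    (h : PicF.cl (ClSub.idealMod P.ker) = PicF.cl (ClSub.idealMod Q.ker)) : P = Q := by
  obtain ⟨N, hN, ⟨e⟩⟩ := PicInv.exists_inverse (isInvertible_ker f hP)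
  have h1 := hasOneSection_dual hpos hP hN e
  obtain ⟨eQ⟩ := cl_eq_iff.1 (show PicF.cl (CohB1.tensorMod (ClSub.idealMod Q.ker) N) = PicF.cl (Coh.structureModule E) by
    rw [cl_tensor, ← h, ← cl_tensor]; exact cl_eq_iff.2 ⟨e⟩)
  obtain ⟨u⟩ := PicClLib.nonempty_pullback_structureModule f
  obtain ⟨Z, hZ⟩ := ZeroMapX.exists_isZeroIdeal (ev f N) (PicClLib.isInvertible_pullback f (isInvertible_push h1)) hN
  exact eq_of_ker_eq f hP hQ ((ker_eq_zeroIdeal h1 hZ hP InvX.isInvertible_structureModule (u ≪≫ e.symm)).trans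
    (ker_eq_zeroIdeal h1 hZ hQ InvX.isInvertible_structureModule (u ≪≫ eQ.symm)).symm)

variable (f) in
/-- The Abel map of a family of positive genus is a monomorphism. -/
theorem cancel_abelMap (hpos : PosGenus f) {P : Over S} {φ : ∀ T : Over S, PicF.Cl (PicF.XT f T) → (T ⟶ P)}
    (hP : AbDual.IsRelPicK Scheme.fppfPrecoverage f P φ) {LΔ : (PicF.XT f (Over.mk f)).Modules}
    (hLΔ : PicF.IsInvertible LΔ) (hΔ : ClSub.IsInverseOf LΔ (ClSub.idealMod (pullback.diagonal f).ker))
    {T : Over S} (x y : T ⟶ Over.mk f)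
    (h : x ≫ φ (Over.mk f) (PicF.cl LΔ) = y ≫ φ (Over.mk f) (PicF.cl LΔ)) : x = y := by
  have hsct : sct f (𝟙 (Over.mk f)) = pullback.diagonal f :=
    pullback.hom_ext ((pullback.lift_fst _ _ _).trans (pullback.diagonal_fst f).symm)
      ((pullback.lift_snd _ _ _).trans (pullback.diagonal_snd f).symm)
  have hinv : ((idCl f (𝟙 (Over.mk f)))⁻¹).val = PicF.cl LΔ := Units.inv_eq_of_mul_eq_one_left (by
    rw [idCl_val, hsct]
    exact cl_eq_iff.2 hΔ)
  have hpull : ∀ {T' : Over S} (z : T' ⟶ Over.mk f),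
      PicF.pullCl (PicF.XTmap f z) (PicF.cl LΔ) = ((idCl f z)⁻¹).val := fun {T'} z => by
    have h1 : Units.map (pullHom (PicF.XTmap f z)) (idCl f (𝟙 (Over.mk f)))⁻¹ = (idCl f z)⁻¹ := by
      rw [map_inv, map_idCl, Category.comp_id]
    rw [← hinv]
    exact congrArg Units.val h1
  rw [← hP.natural _ _ x _ ⟨LΔ, rfl, hLΔ⟩, ← hP.natural _ _ y _ ⟨LΔ, rfl, hLΔ⟩] at h
  obtain ⟨R, hR, hRe⟩ := hP.locallyInjective T _ _ (PicClLib.isInvertibleCl_pullCl _ ⟨LΔ, rfl, hLΔ⟩)
    (PicClLib.isInvertibleCl_pullCl _ ⟨LΔ, rfl, hLΔ⟩) h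
  obtain ⟨Ui, ui, hui, hfl, hfp, hsu⟩ := LineDesc.Rig.exists_small_cover hR
  haveI := hfl; haveI := hsu
  haveI : Epi (Sigma.desc ui) := Flat.epi_of_flat_of_surjective _
  refine Over.OverMorphism.ext ((cancel_epi (Sigma.desc ui)).1 (Sigma.hom_ext _ _ fun t => ?_))
  have h1 := hRe (ui t) (hui t)
  rw [PicClLib.pullCl_comp, PicClLib.pullCl_comp, ← PicClLib.XTmap_comp, ← PicClLib.XTmap_comp, hpull, hpull,
    Units.val_inj, inv_inj] at h1
  have h2 : sct f (AbDual.ovrHom T (ui t) ≫ x) = sct f (AbDual.ovrHom T (ui t) ≫ y) :=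
    section_eq_of_cl_eq (PicF.XTproj f (AbDual.ovr T (ui t))) (posGenus_baseChange f (IsPullback.of_hasPullback f _) hpos)
      (sct_proj f _) (sct_proj f _) (by rw [← idCl_val, ← idCl_val, h1])
  have h3 : (AbDual.ovrHom T (ui t) ≫ x).left = (AbDual.ovrHom T (ui t) ≫ y).left := by
    have h4 := congrArg (· ≫ pullback.fst f (AbDual.ovr T (ui t)).hom) h2
    simpa [sct] using h4
  rw [colimit.ι_desc_assoc, colimit.ι_desc_assoc]
  exact h3

end Groth.Agent.GenusOneX
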