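import Groth.Agent.GenusOneX.Family
import Groth.Agent.H23.PicMul
import Groth.Agent.H23.PicInv

/-!
# Sections of a family of curves of genus one and classes of degree one
-/

set_option autoImplicit false
set_option maxHeartbeats 1600000
set_option linter.style.haveILetI false
set_option linter.unusedSectionVars false
set_option backward.isDefEq.respectTransparency false
set_option backward.isDefEq.respectTransparency.types false

universe u

open CategoryTheory CategoryTheory.Limits AlgebraicGeometry TopologicalSpace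

namespace Groth.Agent.GenusOneX

open Groth.Agent Groth.Agent.H23 Groth.Agent.H23.PicMul
open scoped Groth.Agent.H23.PicMul

attribute [local instance] fibreOver Curv2.resAlgebra

variable {E S : Scheme.{u}} (f : E ⟶ S) [IsProper f] [SmoothOfRelativeDimension 1 f] [GeometricallyConnected f]

/-- A section cuts a rational point on each fibre. -/
theorem exists_fibre_section {P : S ⟶ E} (hP : P ≫ f = 𝟙 S) (s : S) :
    ∃ p : Spec (CommRingCat.of (S.residueField s)) ⟶ f.fiber s,
      p ≫ (f.fiber s ↘ Spec (CommRingCat.of (S.residueField s))) = 𝟙 _ ∧ P.ker.comap (f.fiberι s) = p.ker := by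
  let g := S.fromSpecResidueField s
  let p : Spec (S.residueField s) ⟶ f.fiber s :=
    pullback.lift (g ≫ P) (𝟙 _) (by rw [Category.assoc, hP, Category.comp_id, Category.id_comp])
  haveI : IsClosedImmersion P := by
    haveI : IsClosedImmersion (P ≫ f) := by rw [hP]; infer_instance
    exact IsClosedImmersion.of_comp P f
  refine ⟨p, pullback.lift_snd _ _ _, ?_⟩
  have h : IsPullback g p P (f.fiberι s) := by
    refine IsPullback.of_bot (v₂₁ := f.fiberToSpecResidueField s) (h₃₁ := g) ?_ (pullback.lift_fst _ _ _).symm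
      (IsPullback.of_hasPullback f g).flip.flip
    rw [show p ≫ f.fiberToSpecResidueField s = 𝟙 _ from pullback.lift_snd _ _ _, hP]
    exact IsPullback.of_id_snd
  rw [← Scheme.IdealSheafData.ker_fst_of_isClosedImmersion, ← h.flip.isoPullback_hom_fst, Scheme.Hom.ker_comp_of_isIso]

theorem deg_mul (s : S) {A B : E.Modules} (hA : PicF.IsInvertible A) (hB : PicF.IsInvertible B) {C : E.Modules}
    (h : PicF.cl A * PicF.cl B = PicF.cl C) :
    Curv2.deg (S.residueField s) (f.fiber s) ((Scheme.Modules.pullback (f.fiberι s)).obj C) 1 =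
      Curv2.deg (S.residueField s) (f.fiber s) ((Scheme.Modules.pullback (f.fiberι s)).obj A) 1 +
        Curv2.deg (S.residueField s) (f.fiber s) ((Scheme.Modules.pullback (f.fiberι s)).obj B) 1 := by
  haveI := fibre_isProper f s
  haveI := fibre_isIntegral f s
  rw [← cl_tensor, cl_eq_iff] at h
  obtain ⟨e⟩ := h
  obtain ⟨e'⟩ := PicMul.pull (f.fiberι s) A B
  rw [← CurveRR.deg_congr (S.residueField s) ((Scheme.Modules.pullback (f.fiberι s)).mapIso e) 1,
    CurveRR.deg_congr (S.residueField s) e' 1]
  exact CurveRR.deg_tensor (S.residueField s) (fibre_dim f s) (PicClLib.isInvertible_pullback _ hA)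
    (PicClLib.isInvertible_pullback _ hB)

theorem isInvertible_ker {P : S ⟶ E} (hP : P ≫ f = 𝟙 S) : PicF.IsInvertible (ClSub.idealMod P.ker) :=
  (S8914.result _).2 (SecDiv.isEffCartierIdeal_ker_section f P hP)

theorem deg_ker {P : S ⟶ E} (hP : P ≫ f = 𝟙 S) (s : S) :
    Curv2.deg (S.residueField s) (f.fiber s) ((Scheme.Modules.pullback (f.fiberι s)).obj (ClSub.idealMod P.ker)) 1 = -1 := by
  haveI := fibre_isProper f s
  haveI := fibre_smooth f s
  haveI := fibre_isIntegral f s
  haveI : Smooth (f.fiber s ↘ Spec (CommRingCat.of (S.residueField s))) := SmoothOfRelativeDimension.smooth 1 _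
  obtain ⟨p, hp, hc⟩ := exists_fibre_section f hP s
  obtain ⟨hx, hker, hsur⟩ := CurveEmbed.section_point (S.residueField s) p hp
  have hI : PicF.IsInvertible (ClSub.idealMod (P.ker.comap (f.fiberι s))) := by
    rw [hc, hker]
    exact CurveNondeg.isInvertible_pt (S.residueField s) (fibre_dim f s) hx
  obtain ⟨e⟩ := CurveAlgEqLib.nonempty_pullback_idealMod (f.fiberι s) (isInvertible_ker f hP) hI
  have h1 : Curv2.deg (S.residueField s) (f.fiber s) (ClSub.idealMod (CurvePoint.ptIdeal _ hx)) 1 =
      -(Module.finrank (S.residueField s) ((f.fiber s).residueField (p (IsLocalRing.closedPoint _))) : ℤ) :=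
    CurveEmbed.deg_point (S.residueField s) hx
  have h2 : Module.finrank (S.residueField s) ((f.fiber s).residueField (p (IsLocalRing.closedPoint _))) = 1 :=
    (LinearEquiv.ofBijective (Algebra.linearMap (S.residueField s) _)
      ⟨(Curv2.resMap (S.residueField s) (f.fiber s) _).injective, hsur⟩).finrank_eq.symm.trans (Module.finrank_self _)
  rw [CurveRR.deg_congr (S.residueField s) e 1, hc, hker, h1, h2]
  rfl

variable (hg : ∀ s : S, FGA.eulerCharLE (S.residueField s) (f.fiber s) (Coh.structureModule (f.fiber s)) 1 = 0)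

include hg in
/-- A class of degree one comes from exactly one section. -/
theorem existsUnique_section {N : E.Modules} (hN : IsDegOne f N) :
    ∃! P : S ⟶ E, P ≫ f = 𝟙 S ∧ ∃ M : S.Modules, PicF.IsInvertible M ∧
      PicF.cl (ClSub.idealMod P.ker) * PicF.cl N = PicF.cl ((Scheme.Modules.pullback f).obj M) := by
  obtain ⟨P, hP, -, ⟨e⟩⟩ := exists_section (hasOneSection f hg hN)
  refine ⟨P, ⟨hP, _, isInvertible_push (hasOneSection f hg hN), by rw [← cl_tensor]; exact cl_eq_iff.2 ⟨e.symm⟩⟩, ?_⟩
  rintro Q ⟨hQ, M, hM, hQM⟩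
  rw [← cl_tensor, cl_eq_iff] at hQM
  obtain ⟨Z, hZ⟩ := ZeroMapX.exists_isZeroIdeal (ev f N) (PicClLib.isInvertible_pullback f (isInvertible_push (hasOneSection f hg hN))) hN.1
  exact eq_of_ker_eq f hQ hP ((ker_eq_zeroIdeal (hasOneSection f hg hN) hZ hQ hM hQM.some.symm).trans
    (ker_eq_zeroIdeal (hasOneSection f hg hN) hZ hP (isInvertible_push (hasOneSection f hg hN)) e).symm)

end Groth.Agent.GenusOneX
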